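import Mathlib
import Cfsg.Agent.H539.IdxOK
import Cfsg.Agent.S0713

/-!
# Simple groups acting on the cosets of a subgroup of least index

`Sit T l`: `T` is a nonabelian simple group, `l` the least index of a proper subgroup.
-/

set_option autoImplicit false

open MulAction Equiv

namespace Cfsg.Agent.H867.Engine

universe u

/-- `T` is nonabelian simple with least index `l` of a proper subgroup. -/
structure Sit (T : Type u) [Group T] [Finite T] (l : ℕ) : Prop where
  simple : IsSimpleGroup T
  nonab : ¬ IsMulCommutative T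
  min : ∀ H : Subgroup T, H ≠ ⊤ → l ≤ H.index
  ex : ∃ K : Subgroup T, K ≠ ⊤ ∧ K.index = l

variable {T : Type u} [Group T] [Finite T] {l : ℕ}

theorem Sit.dvd (h : Sit T l) : l ∣ Nat.card T := by
  obtain ⟨K, _, rfl⟩ := h.ex
  exact Subgroup.index_dvd_card K

theorem Sit.two_le (h : Sit T l) : 2 ≤ l := by
  obtain ⟨K, hK, rfl⟩ := h.ex
  have h1 : K.index ≠ 1 := fun h => hK (Subgroup.index_eq_one.1 h)
  have h2 : K.index ≠ 0 := Subgroup.FiniteIndex.index_ne_zero
  omega

/-- The permutation representation. -/
theorem Sit.exists_hom (h : Sit T l) : ∃ f : T →* Perm (Fin l), Function.Injective f ∧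
    IsPreprimitive f.range (Fin l) := by
  obtain ⟨K, hK, hKl⟩ := h.ex
  have := h.simple
  have hcardX : Nat.card (T ⧸ K) = l := by rw [← hKl]; rfl
  have e : (T ⧸ K) ≃ Fin l := by
    rw [← hcardX]; exact Finite.equivFin _
  -- the action on the cosets
  have hcoatom : IsCoatom K := by
    refine ⟨hK, fun H hlt => ?_⟩
    by_contra hH
    have h1 := h.min H hH
    have h2 := Subgroup.index_strictAnti hlt
    omega
  let g : T →* Perm (T ⧸ K) := MulAction.toPermHom T (T ⧸ K)
  let f : T →* Perm (Fin l) := (e.permCongrHom.toMonoidHom).comp g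
  have hf : ∀ (t : T) (x : T ⧸ K), f t (e x) = e (t • x) := by
    intro t x
    show e (t • (e.symm (e x))) = _
    rw [Equiv.symm_apply_apply]
  refine ⟨f, ?_, ?_⟩
  · rw [← MonoidHom.ker_eq_bot_iff]
    rcases IsSimpleGroup.eq_bot_or_eq_top_of_normal f.ker inferInstance with h1 | h1
    · exact h1
    · exfalso
      apply hK
      rw [eq_top_iff]
      intro t _
      have h2 : t ∈ f.ker := by rw [h1]; trivial
      have h3 := hf t ((1 : T) : T ⧸ K)
      rw [MonoidHom.mem_ker.1 h2] at h3
      have h4 := e.injective h3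
      have h5 : ((1 : T) : T ⧸ K) = ((t * 1 : T) : T ⧸ K) := h4
      rw [mul_one, QuotientGroup.eq] at h5
      simpa using h5
  · have hprim : IsPreprimitive T (T ⧸ K) := by
      have : Nontrivial (T ⧸ K) := by
        rw [← Finite.one_lt_card_iff_nontrivial, hcardX]
        have := h.two_le
        omega
      have h6 := MulAction.isCoatom_stabilizer_iff_preprimitive T ((1 : T) : T ⧸ K)
      rw [← h6, MulAction.stabilizer_quotient]
      exact hcoatom
    let φ : T → f.range := fun t => ⟨f t, t, rfl⟩
    let F : (T ⧸ K) →ₑ[φ] (Fin l) := ⟨e, fun t x => (hf t x).symm⟩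
    exact IsPreprimitive.of_surjective (f := F) e.surjective

theorem Sit.range_le_alt (h : Sit T l) (f : T →* Perm (Fin l)) : f.range ≤ alternatingGroup (Fin l) := by
  have := h.simple
  have hmap : f.range.map Perm.sign = ⊥ := by
    rw [← MonoidHom.range_comp]
    rcases IsSimpleGroup.eq_bot_or_eq_top_of_normal (Perm.sign.comp f).ker inferInstance with h1 | h1
    · exfalso
      rw [MonoidHom.ker_eq_bot_iff] at h1
      apply h.nonab
      refine ⟨⟨fun a b => h1 ?_⟩⟩
      rw [map_mul, map_mul, mul_comm]
    · rw [eq_bot_iff]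
      rintro _ ⟨t, rfl⟩
      have h2 : t ∈ (Perm.sign.comp f).ker := by rw [h1]; trivial
      rw [Subgroup.mem_bot]
      exact MonoidHom.mem_ker.1 h2
  intro x hx
  rw [Perm.mem_alternatingGroup]
  have h1 : Perm.sign x ∈ f.range.map Perm.sign := Subgroup.mem_map_of_mem _ hx
  rw [hmap, Subgroup.mem_bot] at h1
  exact h1

theorem Sit.card_dvd (h : Sit T l) : 2 * Nat.card T ∣ l.factorial := by
  obtain ⟨f, hf, _⟩ := h.exists_hom
  have h1 := h.range_le_alt f
  have h2 := Subgroup.card_dvd_of_le h1
  have h3 : Nat.card f.range = Nat.card T := (Nat.card_congr (MonoidHom.ofInjective hf).toEquiv).symm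
  rw [h3] at h2
  have : Nontrivial (Fin l) := Fin.nontrivial_iff_two_le.2 h.two_le
  have h4 : 2 * Nat.card (alternatingGroup (Fin l)) = l.factorial := by
    rw [two_mul_nat_card_alternatingGroup, Nat.card_perm, Nat.card_eq_fintype_card, Fintype.card_fin]
  rw [← h4]
  exact Nat.mul_dvd_mul_left 2 h2

/-- elements of prime order -/
theorem Sit.prime_elem (h : Sit T l) (h5 : 5 ≤ l) {r : ℕ} (hr : r.Prime) (x : T)
    (hx : orderOf x = r) : ∃ q : ℕ, 1 ≤ q ∧ q * r ≤ l ∧
      Nat.card (Subgroup.centralizer ({x} : Set T)) ∣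
        (l - q * r).factorial * r ^ q * q.factorial ∧
      (q = 1 → r + 3 ≤ l → l.factorial = 2 * Nat.card T) := by
  classical
  obtain ⟨f, hf, hprim⟩ := h.exists_hom
  have hord : orderOf (f x) = r := by rw [orderOf_injective f hf, hx]
  obtain ⟨n, hn⟩ := Perm.cycleType_prime_order (σ := f x) (by rw [hord]; exact hr)
  rw [hord] at hn
  have hsum : (f x).cycleType.sum = (n + 1) * r := by
    rw [hn, Multiset.sum_replicate, smul_eq_mul]
  have hle : (n + 1) * r ≤ l := by
    rw [← hsum, Perm.sum_cycleType]
    exact (Finset.card_le_univ _).trans (by rw [Fintype.card_fin])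
  refine ⟨n + 1, by omega, hle, ?_, ?_⟩
  · have h1 := Perm.nat_card_centralizer (f x)
    rw [hsum, Fintype.card_fin, hn, Multiset.prod_replicate,
      Multiset.toFinset_replicate, if_neg (by omega), Finset.prod_singleton,
      Multiset.count_replicate_self] at h1
    rw [← h1]
    have h2 : (Subgroup.centralizer ({x} : Set T)).map f ≤ Subgroup.centralizer ({f x} : Set _) := by
      rintro _ ⟨y, hy, rfl⟩
      have h3 := Subgroup.mem_centralizer_singleton_iff.1 hy
      rw [Subgroup.mem_centralizer_singleton_iff, ← map_mul, h3, map_mul]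
    have h3 := Subgroup.card_dvd_of_le h2
    rwa [Nat.card_congr (((Subgroup.centralizer ({x} : Set T)).equivMapOfInjective f hf).toEquiv).symm] at h3
  · intro hq hr3
    have hn0 : n = 0 := by omega
    subst hn0
    have hcyc : (f x).IsCycle := by
      rw [← Perm.card_cycleType_eq_one, hn, Multiset.card_replicate]
    have hsup : (f x).support.card = r := by
      rw [← Perm.sum_cycleType, hsum]; omega
    have h1 := S0713.result f.range hprim hr (by rw [Fintype.card_fin]; exact h5)
      (by rw [Fintype.card_fin]; exact hr3) hcyc hsup ⟨x, rfl⟩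
    have h2 := le_antisymm (h.range_le_alt f) h1
    have h3 : Nat.card f.range = Nat.card T := (Nat.card_congr (MonoidHom.ofInjective hf).toEquiv).symm
    have : Nontrivial (Fin l) := Fin.nontrivial_iff_two_le.2 h.two_le
    have h4 : 2 * Nat.card (alternatingGroup (Fin l)) = l.factorial := by
      rw [two_mul_nat_card_alternatingGroup, Nat.card_perm, Nat.card_eq_fintype_card, Fintype.card_fin]
    rw [← h4, ← h2, h3]

/-- Sylow: a prime exactly dividing the order. -/
theorem Sit.exact (h : Sit T l) {r : ℕ} (hr : r.Prime) (h1 : r ∣ Nat.card T)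
    (h2 : ¬ r ^ 2 ∣ Nat.card T) (x : T) (hx : orderOf x = r) :
    ∃ c t m : ℕ, Nat.card (Subgroup.centralizer ({x} : Set T)) = r * c ∧ t ∣ r - 1 ∧
      Nat.card T = r * c * t * m ∧ m % r = 1 ∧ l ≤ m := by
  classical
  have := h.simple
  have : Fact r.Prime := ⟨hr⟩
  set P := Subgroup.zpowers x with hP
  have hPcard : Nat.card P = r := by rw [hP, Nat.card_zpowers, hx]
  set N := Subgroup.normalizer (P : Set T) with hN
  -- the centralizer is normal in the normalizer
  set C := Subgroup.centralizer ({x} : Set T) with hC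
  have hCP : C = Subgroup.centralizer (P : Set T) := by
    rw [hC, hP, Subgroup.zpowers_eq_closure, Subgroup.centralizer_closure]
  have hPC : P ≤ C := by
    rw [hP, Subgroup.zpowers_le, hC, Subgroup.mem_centralizer_singleton_iff]
  have hCN : C ≤ N := by
    rw [hCP, hN]
    exact Subgroup.centralizer_le_normalizer _
  obtain ⟨c, hc⟩ : r ∣ Nat.card C := by
    rw [← hPcard]; exact Subgroup.card_dvd_of_le hPC
  -- `N / C` embeds in the automorphism group
  have ht : ∃ t, Nat.card N = Nat.card C * t ∧ t ∣ r - 1 := by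
    have h3 : Nat.card (C.subgroupOf N) * (C.subgroupOf N).index = Nat.card N :=
      Subgroup.card_mul_index _
    rw [Nat.card_congr (Subgroup.subgroupOfEquivOfLe hCN).toEquiv] at h3
    refine ⟨(C.subgroupOf N).index, h3.symm, ?_⟩
    have h4 : (C.subgroupOf N) = (P.normalizerMonoidHom).ker := by
      rw [Subgroup.normalizerMonoidHom_ker, hCP]
    rw [h4, Subgroup.index_ker]
    have h5 : Nat.card (MulAut P) = r - 1 := by
      have : IsCyclic P := by rw [hP]; infer_instance
      have := Nat.card_congr (IsCyclic.mulAutMulEquiv P).toEquiv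
      rw [this, hPcard]
      have h6 := ZMod.card_units r
      rw [Nat.card_eq_fintype_card, h6]
    rw [← h5]
    exact Subgroup.card_subgroup_dvd_card _
  obtain ⟨t, hNt, ht1⟩ := ht
  -- Sylow
  obtain ⟨S, hS⟩ : ∃ S : Sylow r T, (S : Subgroup T) = P := by
    obtain ⟨S, hS⟩ := (IsPGroup.of_card (n := 1) (by rw [hPcard, pow_one]) : IsPGroup r P).exists_le_sylow
    refine ⟨S, (Subgroup.eq_of_le_of_card_ge hS ?_).symm⟩
    obtain ⟨k, hk⟩ := IsPGroup.iff_card.1 S.2
    rw [hk, hPcard]
    have h6 : r ^ k ∣ Nat.card T := by rw [← hk]; exact Subgroup.card_subgroup_dvd_card _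
    have h7 : k ≤ 1 := by
      by_contra hcon
      exact h2 ((pow_dvd_pow r (by omega : 2 ≤ k)).trans h6)
    calc r ^ k ≤ r ^ 1 := Nat.pow_le_pow_right hr.pos h7
      _ = r := pow_one r
  have hsyl := card_sylow_modEq_one r T
  have hSset : (S : Set T) = (P : Set T) := by rw [← hS]; rfl
  rw [S.card_eq_index_normalizer, hSset, ← hN] at hsyl
  refine ⟨c, t, N.index, hc, ht1, ?_, ?_, ?_⟩
  · rw [← hc, ← hNt, Subgroup.card_mul_index]
  · have h3 := hsyl
    unfold Nat.ModEq at h3
    rw [Nat.mod_eq_of_lt hr.one_lt] at h3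
    exact h3
  · apply h.min
    intro htop
    have hnorm : P.Normal := by
      rw [hN] at htop
      exact Subgroup.normalizer_eq_top_iff.1 htop
    rcases hnorm.eq_bot_or_eq_top with h3 | h3
    · rw [h3, Subgroup.card_bot] at hPcard
      exact hr.one_lt.ne hPcard
    · apply h.nonab
      have hcyc : IsCyclic T := by
        refine ⟨x, fun y => ?_⟩
        have hy : y ∈ P := by rw [h3]; trivial
        exact Subgroup.mem_zpowers_iff.1 hy
      exact IsCyclic.isMulCommutative

end Cfsg.Agent.H867.Engine
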