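import Mathlib
import Cfsg.Agent.S2153
import Cfsg.Agent.S2144
import Cfsg.Agent.S1577
import Cfsg.Agent.SporadicA.Co0Basic
import Cfsg.Agent.S1686
import Cfsg.Agent.S1688
import Cfsg.Agent.S1696
import Cfsg.Agent.S1697
import Cfsg.Agent.S1698
import Cfsg.Agent.S0399
import Cfsg.Agent.S1704
import Cfsg.Agent.S5534
import Cfsg.Agent.BM.Psi
import Cfsg.Agent.R08.FiTwentyFour
import Cfsg.Agent.NotCT.Orders
import Cfsg.Agent.MonsterP.Equiv
import Cfsg.Agent.H867.MinIdx

/-!
# Index bounds for the Fischer groups, `Co₁`, `Co₂`, the Baby Monster and the Monster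
-/

set_option autoImplicit false

namespace Cfsg.Agent.H867.SporMI

open Cfsg Cfsg.Agent.H867.MinIdx
open scoped commutatorElement

universe u v

/-- non-split double covers of simple groups are perfect -/
theorem perfect_of_nonsplit {H : Type u} {K : Type v} [Group H] [Group K] [IsSimpleGroup K]
    (hK : ¬ IsMulCommutative K) (h : IsNonsplitDoubleCover H K) : commutator H = ⊤ := by
  obtain ⟨hZ, ⟨e⟩, hns⟩ := h
  set Z := Subgroup.center H with hZdef
  let π : H →* K := e.toMonoidHom.comp (QuotientGroup.mk' Z)
  have hπ : Function.Surjective π := e.surjective.comp (QuotientGroup.mk'_surjective Z)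
  have hker : π.ker = Z := by
    ext x
    rw [MonoidHom.mem_ker]
    show e (QuotientGroup.mk' Z x) = 1 ↔ x ∈ Z
    rw [e.map_eq_one_iff, QuotientGroup.mk'_apply, QuotientGroup.eq_one_iff]
  have hKperf : commutator K = ⊤ := by
    rcases IsSimpleGroup.eq_bot_or_eq_top_of_normal (commutator K) inferInstance with h1 | h1
    · exfalso
      apply hK
      refine ⟨⟨fun a b => ?_⟩⟩
      have h2 : ⁅a, b⁆ ∈ commutator K := Subgroup.commutator_mem_commutator (Subgroup.mem_top a) (Subgroup.mem_top b)
      rw [h1, Subgroup.mem_bot, commutatorElement_eq_one_iff_mul_comm] at h2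
      exact h2
    · exact h1
  have hsup : commutator H ⊔ Z = ⊤ := by
    rw [eq_top_iff]
    intro x _
    have h1 : π x ∈ (commutator H).map π := by
      have h2 : (commutator H).map π = commutator K := by
        rw [commutator_def, Subgroup.map_commutator, ← MonoidHom.range_eq_map,
          MonoidHom.range_eq_top.2 hπ, commutator_def]
      rw [h2, hKperf]
      trivial
    obtain ⟨y, hy, hyx⟩ := h1
    have h2 : y⁻¹ * x ∈ Z := by
      rw [← hker, MonoidHom.mem_ker, map_mul, map_inv, hyx, inv_mul_cancel]
    have h3 : x = y * (y⁻¹ * x) := by group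
    rw [h3]
    exact Subgroup.mul_mem_sup hy h2
  by_cases hle : Z ≤ commutator H
  · rwa [sup_eq_left.2 hle] at hsup
  · exfalso
    apply hns (commutator H)
    have hdisj : Disjoint Z (commutator H) := by
      rw [Subgroup.disjoint_def]
      intro x hx hxc
      by_contra hx1
      apply hle
      intro z hz
      have : Finite Z := Nat.finite_of_card_ne_zero (by rw [hZ]; norm_num)
      have h2 : Subgroup.zpowers x = Z := by
        apply Subgroup.eq_of_le_of_card_ge
        · rwa [Subgroup.zpowers_le]
        · rw [hZ, Nat.card_zpowers]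
          have h3 : orderOf x ∣ 2 := by
            rw [← hZ]
            have := orderOf_dvd_natCard (⟨x, hx⟩ : Z)
            rwa [Subgroup.orderOf_mk] at this
          rcases (Nat.dvd_prime Nat.prime_two).1 h3 with h4 | h4
          · exact absurd (orderOf_eq_one_iff.1 h4) hx1
          · rw [h4]
      rw [← h2] at hz
      have h3 : Subgroup.zpowers x ≤ commutator H := by rwa [Subgroup.zpowers_le]
      exact h3 hz
    exact Subgroup.isComplement'_of_disjoint_and_mul_eq_univ hdisj (by
      rw [← Subgroup.normal_mul, sup_comm, hsup]; rfl)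

theorem MI.double {H : Type u} {K : Type v} [Group H] [Group K] [IsSimpleGroup K]
    (hK : ¬ IsMulCommutative K) (h : IsNonsplitDoubleCover H K) {n : ℕ} (hn : MI K n) : MI H n := by
  have hp := perfect_of_nonsplit hK h
  obtain ⟨hZ, ⟨e⟩, hns⟩ := h
  let π : H →* K := e.toMonoidHom.comp (QuotientGroup.mk' (Subgroup.center H))
  have hπ : Function.Surjective π := e.surjective.comp (QuotientGroup.mk'_surjective _)
  have hker : π.ker ≤ Subgroup.center H := by
    intro x hx
    rw [MonoidHom.mem_ker] at hx
    have h1 : e (QuotientGroup.mk' (Subgroup.center H) x) = 1 := hx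
    rwa [e.map_eq_one_iff, QuotientGroup.mk'_apply, QuotientGroup.eq_one_iff] at h1
  exact hn.cover hp π hπ hker

/-- a simple group of even order greater than two -/
theorem not_comm {K : Type u} [Group K] [hs : IsSimpleGroup K] (hc : ¬ (Nat.card K).Prime) :
    ¬ IsMulCommutative K := by
  intro h
  apply hc
  let _ : CommGroup K := { (inferInstance : Group K) with mul_comm := h.is_comm.comm }
  exact IsSimpleGroup.prime_card

/-! ### The groups -/

theorem o73 : MI (POmega (ZMod 3) (quadFormOdd 3 (ZMod 3))) 351 := by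
  apply MI.of_index
  intro K hK
  have h := (S2144.result (F := ZMod 3) (ZMod.card 3) 3 le_rfl).1 K hK
  norm_num at h
  exact h

theorem u62 {F : Type} [Field F] [Fintype F] (hF : Fintype.card F = 4) : MI (PSU 6 F 2) 672 := by
  apply MI.of_index
  intro K hK
  have h := (S2153.result hF 6 dvd_rfl le_rfl).1 K hK
  norm_num at h
  exact h

theorem of_embed {X : Type u} {Y : Type v} [Group X] [Group Y] [IsSimpleGroup Y] {n : ℕ} (h : MI X n)
    (f : X →* Y) (hf : Function.Injective f) (hX : Nontrivial X) : MI Y n := by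
  obtain ⟨x, hx⟩ := exists_ne (1 : X)
  exact h.of_hom f (x := x) fun h1 => hx (hf (by rw [h1, map_one]))

theorem nontrivial_of_index {X : Type u} [Group X] {H : Subgroup X} {n : ℕ} (h : H.index = n)
    (hn : n ≠ 1) : Nontrivial X := by
  rw [← not_subsingleton_iff_nontrivial]
  intro hs
  apply hn
  rw [← h, Subgroup.index_eq_one, eq_top_iff]
  intro x _
  rw [Subsingleton.elim x 1]
  exact H.one_mem

theorem nontrivial_of_double {H : Type u} {K : Type v} [Group H] [Group K]
    (h : IsNonsplitDoubleCover H K) : Nontrivial H := by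
  rw [← not_subsingleton_iff_nontrivial]
  intro hs
  have h1 := h.1
  rw [Nat.card_unique] at h1
  norm_num at h1

theorem fi22 : MI Spor.Fi22 351 := by
  have hs : IsSimpleGroup Spor.Fi22 := S1696.result.1
  obtain ⟨e⟩ := S1686.result
  obtain ⟨H, hH⟩ := (S2144.result (F := ZMod 3) (ZMod.card 3) 3 le_rfl).2
  have h1 : Nontrivial (POmega (ZMod 3) (quadFormOdd 3 (ZMod 3))) :=
    nontrivial_of_index hH (by norm_num)
  exact of_embed (o73.congr e.symm) (Subgroup.subtype _) (Subgroup.subtype_injective _)
    e.toEquiv.nontrivial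

theorem nc_fi22 : ¬ IsMulCommutative Spor.Fi22 := by
  have hs : IsSimpleGroup Spor.Fi22 := S1696.result.1
  apply not_comm
  rw [S1696.result.2]
  norm_num

theorem fi23 : MI Spor.Fi23 351 := by
  have hs : IsSimpleGroup Spor.Fi22 := S1696.result.1
  have hs' : IsSimpleGroup Spor.Fi23 := S1697.result.1
  have h := S1688.result
  exact of_embed (MI.double nc_fi22 h fi22) (Subgroup.subtype _) (Subgroup.subtype_injective _)
    (nontrivial_of_double h)

theorem fi24 : MI Spor.Fi24' 351 := by
  have hs : IsSimpleGroup Spor.Fi24' := S1698.result.1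
  have hs' : IsSimpleGroup Spor.Fi23 := S1697.result.1
  have F := R08.FiTwentyFour.facts
  let e : Spor.Fi23 →* Spor.Fi24' :=
    { toFun := fun k => ⟨F.phi k, R08.FiTwentyFour.mem_commutator_iff.2 (F.sgn_phi k)⟩
      map_one' := Subtype.ext (map_one F.phi)
      map_mul' := fun a b => Subtype.ext (map_mul F.phi a b) }
  refine of_embed fi23 e ?_ inferInstance
  intro a b hab
  exact F.phi_injective (congrArg Subtype.val hab)

theorem baby : MI Spor.BabyMonster 351 := by
  have hs : IsSimpleGroup Spor.BabyMonster := S1704.result.1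
  have hs' : IsSimpleGroup Spor.Fi23 := S1697.result.1
  let f : Spor.Fi23 →* Spor.BabyMonster := BM.Psi.psi BM.Psi.rel_of
  have hne : f.ker ≠ ⊤ := by
    intro htop
    have h1 : ∀ y : Spor.Fi23.Gen,
        (PresentedGroup.of (BM.Psi.m1 y) : Spor.BabyMonster) = 1 := by
      intro y
      rw [← BM.Psi.psi_gen BM.Psi.rel_of y]
      have : Fischer.Fi23Hom.gen y ∈ f.ker := by rw [htop]; trivial
      exact this
    have h2 : ∀ t : Spor.BabyMonster.Gen, (PresentedGroup.of t : Spor.BabyMonster) = 1 := by
      intro t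
      cases t
      · exact h1 .j
      · exact h1 .g
      · exact h1 .f
      · exact h1 .e
      · exact h1 .d
      · exact h1 .c
      · exact h1 .b
      · exact h1 .a
      · exact h1 .h
      · exact h1 .i
      · have h3 := BM.Psi.Rel.sq BM.Psi.rel_of .t11
        have h4 := BM.Psi.Rel.cox BM.Psi.rel_of .t10 .t11
        have h5 : Spor.coxLabel Spor.BabyMonster.edges .t10 .t11 = 3 := by decide
        have h6 : (PresentedGroup.of .t10 : Spor.BabyMonster) = 1 := h1 .i
        rw [h5, h6, one_mul, pow_succ, pow_two, h3, one_mul] at h4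
        exact h4
    have h3 : (⊤ : Subgroup Spor.BabyMonster) = ⊥ := by
      rw [← PresentedGroup.closure_range_of, Subgroup.closure_eq_bot_iff]
      rintro _ ⟨t, rfl⟩
      exact h2 t
    have h4 : Nat.card Spor.BabyMonster = 1 := by
      rw [← Subgroup.card_top, h3, Subgroup.card_bot]
    have h5 : Nat.card Spor.BabyMonster = 4154781481226426191177580544000000 := S1704.result.2
    rw [h5] at h4
    norm_num at h4
  have hinj : Function.Injective f := by
    rw [← MonoidHom.ker_eq_bot_iff]
    rcases IsSimpleGroup.eq_bot_or_eq_top_of_normal f.ker inferInstance with h1 | h1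
    · exact h1
    · exact absurd h1 hne
  exact of_embed fi23 f hinj inferInstance

theorem monster : MI Spor.Monster 351 := by
  have hs : IsSimpleGroup Spor.BabyMonster := S1704.result.1
  have hs' : IsSimpleGroup Spor.Monster := MonsterP.Equiv.isM.1
  obtain ⟨y, hy, h⟩ := S5534.result
  have hnc : ¬ IsMulCommutative Spor.BabyMonster := by
    apply not_comm
    rw [S1704.result.2]
    norm_num
  exact of_embed (MI.double hnc h baby) (Subgroup.subtype _) (Subgroup.subtype_injective _)
    (nontrivial_of_double h)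

/-- `-4` at the extra point and `4` at the residue `1` -/
def vecW : GolayPt → ℤ := fun p => if p = none then -4 else if p = some 1 then 4 else 0

theorem vecW_mem : vecW ∈ leechSet :=
  Spor.mem_leechSet_of_const_mod_four vecW 0 0 (by decide) (by decide) (by decide)

/-- the lattice vector -/
def leechW : leechLattice := ⟨vecW, AddSubgroup.subset_closure vecW_mem⟩

theorem exists_field : ∃ (F : Type) (_ : Field F) (_ : Fintype F), Fintype.card F = 4 := by
  have h2 : Fact (Nat.Prime 2) := ⟨Nat.prime_two⟩
  let _ : Fintype (GaloisField 2 2) := Fintype.ofFinite _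
  refine ⟨GaloisField 2 2, inferInstance, inferInstance, ?_⟩
  rw [← Nat.card_eq_fintype_card, GaloisField.card 2 2 (by norm_num)]
  norm_num

theorem exists_equiv {F : Type} [Field F] [Fintype F] (hF : Fintype.card F = 4) :
    Nonempty (↥(MulAction.stabilizer ↥Co0 Spor.leechU ⊓ MulAction.stabilizer ↥Co0 leechW) ≃*
      PSU 6 F 2) := by
  have h1 : sqNorm ((Spor.leechU : leechLattice) : GolayPt → ℤ) = 32 := by
    show sqNorm Spor.vecU = 32
    decide
  have h2 : sqNorm ((leechW : leechLattice) : GolayPt → ℤ) = 32 := by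
    show sqNorm vecW = 32
    decide
  have h3 : dotInt ((Spor.leechU : leechLattice) : GolayPt → ℤ)
      ((leechW : leechLattice) : GolayPt → ℤ) = -16 := by
    show dotInt Spor.vecU vecW = -16
    decide
  exact S1577.result Spor.leechU leechW h1 h2 h3 F hF

/-- the stabilizer of two vectors -/
abbrev UU : Subgroup ↥Co0 :=
  MulAction.stabilizer ↥Co0 Spor.leechU ⊓ MulAction.stabilizer ↥Co0 leechW

theorem uu : MI UU 672 ∧ Nontrivial UU := by
  obtain ⟨F, _, _, hF⟩ := exists_field
  obtain ⟨e⟩ := exists_equiv hF
  refine ⟨(u62 hF).congr e.symm, ?_⟩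
  obtain ⟨H, hH⟩ := (S2153.result hF 6 dvd_rfl le_rfl).2
  have h1 : Nontrivial (PSU 6 F 2) := nontrivial_of_index hH (by norm_num)
  exact e.toEquiv.nontrivial

theorem co2 (hs : IsSimpleGroup Spor.Co2) : MI Spor.Co2 672 := by
  let g : UU →* Spor.Co2 :=
    { toFun := fun t => ⟨t.1.1, t.1.2, t.2.1⟩
      map_one' := rfl
      map_mul' := fun _ _ => rfl }
  refine of_embed uu.1 g ?_ uu.2
  intro s t hst
  apply Subtype.ext
  apply Subtype.ext
  exact congrArg (fun z : Spor.Co2 => z.1) hst

theorem co1 : MI Spor.Co1 672 := by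
  have hs : IsSimpleGroup Spor.Co1 := S0399.result.1
  obtain ⟨h1, h2⟩ := uu
  let g : UU →* Spor.Co1 := (QuotientGroup.mk' (Subgroup.center Co0)).comp UU.subtype
  refine of_embed h1 g ?_ h2
  rw [← MonoidHom.ker_eq_bot_iff, eq_bot_iff]
  intro x hx
  rw [Subgroup.mem_bot]
  have h3 : (x : ↥Co0) ∈ Subgroup.center Co0 := by
    rw [MonoidHom.mem_ker] at hx
    exact (QuotientGroup.eq_one_iff _).1 hx
  rcases SporadicA.Co0Basic.eq_one_or_neg_of_mem_center h3 with h4 | h4
  · exact Subtype.ext h4
  · exfalso
    have h5 : (x : ↥Co0) • Spor.leechU = Spor.leechU := x.2.1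
    rw [h4] at h5
    have h6 : (SporadicA.Co0Basic.negCo0 : Co0) • Spor.leechU = -Spor.leechU :=
      SporadicA.Co0Basic.negCo0_apply _
    rw [h6] at h5
    have h7 := congrArg (fun v : leechLattice => (v : GolayPt → ℤ) none) h5
    have h8 : (Spor.leechU : GolayPt → ℤ) none = 4 := by
      show Spor.vecU none = 4
      decide
    have h9 : ((-Spor.leechU : leechLattice) : GolayPt → ℤ) none = -4 := by
      rw [← h8]; rfl
    rw [h9, h8] at h7
    norm_num at h7

end Cfsg.Agent.H867.SporMI
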