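import Mathlib

/-!
# Duality between the orbits of two stabilisers

If `G` acts on `α` and `β`, then the orbits of `stabilizer G a` on the orbit of `b` correspond to the
orbits of `stabilizer G b` on the orbit of `a`, and the sizes are proportional.
-/

set_option autoImplicit false

namespace Cfsg.Agent.H867.Dual

variable {G : Type*} [Group G] {α β : Type*} [MulAction G α] [MulAction G β]

/-- Size of a suborbit times the order of the joint stabiliser. -/
theorem ncard_orbit_mul (a : α) (b : β) :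
    (MulAction.orbit (MulAction.stabilizer G a) b).ncard *
      Nat.card ↥(MulAction.stabilizer G a ⊓ MulAction.stabilizer G b) =
      Nat.card (MulAction.stabilizer G a) := by
  have h1 : (MulAction.stabilizer (MulAction.stabilizer G a) b) =
      (MulAction.stabilizer G b).subgroupOf (MulAction.stabilizer G a) := by
    ext k
    simp [Subgroup.mem_subgroupOf, MulAction.mem_stabilizer_iff, Subgroup.smul_def]
  have h2 : Nat.card ↥(MulAction.stabilizer G a ⊓ MulAction.stabilizer G b) =
      Nat.card (MulAction.stabilizer (MulAction.stabilizer G a) b) := by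
    rw [h1, ← Subgroup.inf_subgroupOf_left]
    exact (Nat.card_congr (Subgroup.subgroupOfEquivOfLe inf_le_left).toEquiv).symm
  rw [h2, ← MulAction.index_stabilizer, mul_comm]
  exact Subgroup.card_mul_index _

theorem ncard_orbit_mul_card_stabilizer (a : α) :
    (MulAction.orbit G a).ncard * Nat.card (MulAction.stabilizer G a) = Nat.card G := by
  rw [← MulAction.index_stabilizer, mul_comm]
  exact Subgroup.card_mul_index _

/-- The joint stabilisers of `(a, g • b)` and `(g⁻¹ • a, b)` are conjugate. -/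
theorem card_inf_smul (g : G) (a : α) (b : β) :
    Nat.card ↥(MulAction.stabilizer G a ⊓ MulAction.stabilizer G (g • b)) =
      Nat.card ↥(MulAction.stabilizer G b ⊓ MulAction.stabilizer G (g⁻¹ • a)) := by
  refine Nat.card_congr ⟨fun x => ⟨g⁻¹ * x.1 * g, ?_, ?_⟩, fun x => ⟨g * x.1 * g⁻¹, ?_, ?_⟩, ?_, ?_⟩
  · have h : x.1 • g • b = g • b := x.2.2
    show (g⁻¹ * x.1 * g) • b = b
    rw [mul_smul, mul_smul, h, inv_smul_smul]
  · have h : x.1 • a = a := x.2.1
    show (g⁻¹ * x.1 * g) • g⁻¹ • a = g⁻¹ • a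
    rw [mul_smul, mul_smul, smul_inv_smul, h]
  · have h : x.1 • g⁻¹ • a = g⁻¹ • a := x.2.2
    show (g * x.1 * g⁻¹) • a = a
    rw [mul_smul, mul_smul, h, smul_inv_smul]
  · have h : x.1 • b = b := x.2.1
    show (g * x.1 * g⁻¹) • g • b = g • b
    rw [mul_smul, mul_smul, inv_smul_smul, h]
  · intro x
    ext1
    simp [mul_assoc]
  · intro x
    ext1
    simp [mul_assoc]

/-- Proportionality of the sizes of dual suborbits. -/
theorem ncard_dual [Finite G] (g : G) (a : α) (b : β) :
    (MulAction.orbit (MulAction.stabilizer G b) (g⁻¹ • a)).ncard * (MulAction.orbit G b).ncard =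
      (MulAction.orbit (MulAction.stabilizer G a) (g • b)).ncard * (MulAction.orbit G a).ncard := by
  have h1 := ncard_orbit_mul (G := G) a (g • b)
  have h2 := ncard_orbit_mul (G := G) b (g⁻¹ • a)
  have h3 := ncard_orbit_mul_card_stabilizer (G := G) a
  have h4 := ncard_orbit_mul_card_stabilizer (G := G) b
  have h5 := card_inf_smul g a b
  rw [← h1] at h3
  rw [← h2, ← h5] at h4
  have hpos : 0 < Nat.card ↥(MulAction.stabilizer G a ⊓ MulAction.stabilizer G (g • b)) :=
    Nat.card_pos
  apply Nat.eq_of_mul_eq_mul_right hpos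
  calc _ = (MulAction.orbit G b).ncard *
        ((MulAction.orbit (MulAction.stabilizer G b) (g⁻¹ • a)).ncard *
          Nat.card ↥(MulAction.stabilizer G a ⊓ MulAction.stabilizer G (g • b))) := by ring
    _ = (MulAction.orbit G a).ncard *
        ((MulAction.orbit (MulAction.stabilizer G a) (g • b)).ncard *
          Nat.card ↥(MulAction.stabilizer G a ⊓ MulAction.stabilizer G (g • b))) := by rw [h3, h4]
    _ = _ := by ring

/-- Dual decomposition into suborbits. -/
theorem exists_dual [Finite G] {ι : Type*} (A : Set α) (B : Set β) (a : α) (b : β)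
    (hA : MulAction.orbit G a = A) (hB : MulAction.orbit G b = B) (Y : ι → β)
    (hY : ∀ i, Y i ∈ B) (hcov : B = ⋃ i, MulAction.orbit (MulAction.stabilizer G a) (Y i)) :
    ∃ X : ι → α, (∀ i, X i ∈ A) ∧
      (∀ i, (MulAction.orbit (MulAction.stabilizer G b) (X i)).ncard * B.ncard =
        (MulAction.orbit (MulAction.stabilizer G a) (Y i)).ncard * A.ncard) ∧
      A = ⋃ i, MulAction.orbit (MulAction.stabilizer G b) (X i) := by
  have hg : ∀ i, ∃ g : G, g • b = Y i := by
    intro i
    have h := hY i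
    rw [← hB] at h
    exact h
  choose g hg using hg
  refine ⟨fun i => (g i)⁻¹ • a, fun i => ?_, fun i => ?_, ?_⟩
  · rw [← hA]
    exact ⟨_, rfl⟩
  · rw [← hA, ← hB, ← hg]
    exact ncard_dual (g i) a b
  · apply Set.Subset.antisymm
    · intro x hx
      rw [← hA] at hx
      obtain ⟨k, rfl⟩ := hx
      have hb : k⁻¹ • b ∈ B := by
        rw [← hB]
        exact ⟨_, rfl⟩
      rw [hcov] at hb
      obtain ⟨i, ⟨⟨s, hs⟩, hsi⟩⟩ := Set.mem_iUnion.1 hb
      have hsi' : s • Y i = k⁻¹ • b := hsi
      rw [← hg] at hsi'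
      refine Set.mem_iUnion.2 ⟨i, ⟨⟨k * s * g i, ?_⟩, ?_⟩⟩
      · rw [MulAction.mem_stabilizer_iff, mul_smul, mul_smul, hsi', smul_inv_smul]
      · show (k * s * g i) • (g i)⁻¹ • a = k • a
        rw [mul_smul, mul_smul, smul_inv_smul, MulAction.mem_stabilizer_iff.1 hs]
    · apply Set.iUnion_subset
      rintro i _ ⟨⟨s, hs⟩, rfl⟩
      rw [← hA]
      exact ⟨s * (g i)⁻¹, by
        show (s * (g i)⁻¹) • a = s • (g i)⁻¹ • a
        rw [mul_smul]⟩

/-- Suborbits of a conjugate point stabiliser. -/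
theorem exists_of_transitive {ι : Type*} (A : Set α) (B : Set β) (a a' : α)
    (hA : MulAction.orbit G a = A) (ha' : a' ∈ A) (hGB : ∀ (g : G), ∀ y ∈ B, g • y ∈ B) (Y : ι → β)
    (hY : ∀ i, Y i ∈ B) (n : ι → ℕ)
    (hn : ∀ i, (MulAction.orbit (MulAction.stabilizer G a) (Y i)).ncard = n i)
    (hcov : B = ⋃ i, MulAction.orbit (MulAction.stabilizer G a) (Y i)) :
    ∃ Z : ι → β, (∀ i, Z i ∈ B) ∧
      (∀ i, (MulAction.orbit (MulAction.stabilizer G a') (Z i)).ncard = n i) ∧
      B = ⋃ i, MulAction.orbit (MulAction.stabilizer G a') (Z i) := by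
  rw [← hA] at ha'
  obtain ⟨g, rfl⟩ := ha'
  have key : ∀ y : β, MulAction.orbit (MulAction.stabilizer G (g • a)) (g • y) =
      (fun z => g • z) '' MulAction.orbit (MulAction.stabilizer G a) y := by
    intro y
    ext z
    constructor
    · rintro ⟨⟨h, hh⟩, rfl⟩
      rw [MulAction.mem_stabilizer_iff] at hh
      refine ⟨(g⁻¹ * h * g) • y, ⟨⟨g⁻¹ * h * g, ?_⟩, rfl⟩, ?_⟩
      · rw [MulAction.mem_stabilizer_iff, mul_smul, mul_smul, hh, inv_smul_smul]
      · show g • (g⁻¹ * h * g) • y = h • g • y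
        simp [mul_smul]
    · rintro ⟨_, ⟨⟨h, hh⟩, rfl⟩, rfl⟩
      rw [MulAction.mem_stabilizer_iff] at hh
      refine ⟨⟨g * h * g⁻¹, ?_⟩, ?_⟩
      · rw [MulAction.mem_stabilizer_iff, mul_smul, mul_smul, inv_smul_smul, hh]
      · show (g * h * g⁻¹) • g • y = g • h • y
        simp [mul_smul]
  refine ⟨fun i => g • Y i, fun i => hGB g _ (hY i), fun i => ?_, ?_⟩
  · show (MulAction.orbit (MulAction.stabilizer G (g • a)) (g • Y i)).ncard = n i
    rw [key, Set.ncard_image_of_injective _ (MulAction.injective g)]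
    exact hn i
  · apply Set.Subset.antisymm
    · intro y hy
      have h1 : g⁻¹ • y ∈ B := hGB _ _ hy
      rw [hcov] at h1
      obtain ⟨i, hi⟩ := Set.mem_iUnion.1 h1
      refine Set.mem_iUnion.2 ⟨i, ?_⟩
      show y ∈ MulAction.orbit (MulAction.stabilizer G (g • a)) (g • Y i)
      rw [key]
      exact ⟨_, hi, smul_inv_smul g y⟩
    · apply Set.iUnion_subset
      rintro i _ ⟨s, rfl⟩
      exact hGB s.1 _ (hGB g _ (hY i))

end Cfsg.Agent.H867.Dual
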