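import Cfsg.Prelude.Def_SporadicCombinatorics
import Cfsg.Agent.H867.Dual
import Cfsg.Agent.S0354
import Cfsg.Agent.S0360
import Cfsg.Agent.S0363
import Cfsg.Agent.S0364
import Cfsg.Agent.S0367
import Cfsg.Agent.S1555
import Cfsg.Agent.S1556

/-!
# Orders of the joint stabilisers of two octads
-/

set_option autoImplicit false
open scoped Pointwise

namespace Cfsg.Agent.H867.OctadCount

open Cfsg Cfsg.Agent.H867.Dual

/-- The orbit of an octad. -/
theorem orbit_octad {o : Finset GolayPt} (ho : o ∈ octads) : MulAction.orbit M24 o = octads := by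
  apply Set.Subset.antisymm
  · rintro _ ⟨g, rfl⟩
    exact Cfsg.Agent.S0367.smul_mem_octads g o ho
  · intro o' ho'
    exact Cfsg.Agent.S0367.result o o' ho ho'

theorem card_stabilizer_octad {o : Finset GolayPt} (ho : o ∈ octads) :
    Nat.card (MulAction.stabilizer M24 o) = 322560 := by
  have h := ncard_orbit_mul_card_stabilizer (G := M24) o
  rw [orbit_octad ho, Cfsg.Agent.S0360.result, Cfsg.Agent.S0364.result] at h
  omega

/-- The suborbits of an octad are given by the size of the intersection. -/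
theorem suborbit_eq {o o' : Finset GolayPt} (ho : o ∈ octads) (ho' : o' ∈ octads) :
    MulAction.orbit (MulAction.stabilizer M24 o) o' =
      {x | x ∈ octads ∧ (o ∩ x).card = (o ∩ o').card} := by
  ext x
  constructor
  · rintro ⟨⟨g, hg⟩, rfl⟩
    refine ⟨Cfsg.Agent.S0367.smul_mem_octads g o' ho', ?_⟩
    have hg' : (g : Equiv.Perm GolayPt) • o = o := hg
    show (o ∩ (g : Equiv.Perm GolayPt) • o').card = _
    conv_lhs => rw [← hg']
    rw [← Finset.smul_finset_inter, Finset.card_smul_finset]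
  · rintro ⟨hx, hc⟩
    obtain ⟨g, hg, h1, h2⟩ := Cfsg.Agent.S1556.result o o' x ho ho' hx hc.symm
    exact ⟨⟨⟨g, hg⟩, h1⟩, h2⟩

/-- Number of octads meeting `o` in `k` points when each `k`-subset of `o` is the intersection with
`c` octads. -/
theorem ncard_meet {o : Finset GolayPt} (k c : ℕ)
    (h : ∀ s : Finset GolayPt, s ⊆ o → s.card = k → {o' | o' ∈ octads ∧ o ∩ o' = s}.ncard = c) :
    {x | x ∈ octads ∧ (o ∩ x).card = k}.ncard = (o.card.choose k) * c := by
  classical
  set A : Finset (Finset GolayPt) := (Set.toFinite {x | x ∈ octads ∧ (o ∩ x).card = k}).toFinset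
    with hA
  have hmem : ∀ x, x ∈ A ↔ x ∈ octads ∧ (o ∩ x).card = k := by
    intro x
    rw [hA, Set.Finite.mem_toFinset]
    exact Iff.rfl
  rw [Set.ncard_eq_toFinset_card _ (Set.toFinite _), ← hA]
  rw [Finset.card_eq_sum_card_fiberwise (f := fun x => o ∩ x) (t := o.powersetCard k)]
  · rw [Finset.sum_const_nat (m := c), Finset.card_powersetCard]
    intro s hs
    obtain ⟨hs1, hs2⟩ := Finset.mem_powersetCard.1 hs
    rw [← h s hs1 hs2, Set.ncard_eq_toFinset_card _ (Set.toFinite _)]
    congr 1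
    ext x
    rw [Finset.mem_filter, hmem, Set.Finite.mem_toFinset]
    show _ ↔ x ∈ octads ∧ o ∩ x = s
    constructor
    · rintro ⟨⟨h1, -⟩, h2⟩
      exact ⟨h1, h2⟩
    · rintro ⟨h1, h2⟩
      exact ⟨⟨h1, by rw [h2]; exact hs2⟩, h2⟩
  · intro x hx
    rw [Finset.mem_coe, hmem] at hx
    rw [Finset.mem_coe, Finset.mem_powersetCard]
    exact ⟨Finset.inter_subset_left, hx.2⟩

theorem ncard_suborbit {o o' : Finset GolayPt} (ho : o ∈ octads) (ho' : o' ∈ octads) :
    ((o ∩ o').card = 0 → (MulAction.orbit (MulAction.stabilizer M24 o) o').ncard = 30) ∧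
    ((o ∩ o').card = 4 → (MulAction.orbit (MulAction.stabilizer M24 o) o').ncard = 280) ∧
    ((o ∩ o').card = 2 → (MulAction.orbit (MulAction.stabilizer M24 o) o').ncard = 448) := by
  have hα : Fintype.card GolayPt = 24 := by rw [Fintype.card_option, ZMod.card]
  rw [suborbit_eq ho ho']
  refine ⟨fun h => ?_, fun h => ?_, fun h => ?_⟩
  · rw [h, ← Cfsg.Agent.S0354.result hα Cfsg.Agent.S0363.result ho]
    congr 1
    ext x
    show _ ∧ _ ↔ _ ∧ _
    rw [Finset.card_eq_zero, Finset.disjoint_iff_inter_eq_empty]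
  · rw [h, ncard_meet 4 4 (fun s hs hc => (Cfsg.Agent.S1555.result o ho s hs).2 hc), ho.2]
    rfl
  · rw [h, ncard_meet 2 16 (fun s hs hc => (Cfsg.Agent.S1555.result o ho s hs).1 hc), ho.2]
    rfl

theorem card_joint {o o' : Finset GolayPt} (ho : o ∈ octads) (ho' : o' ∈ octads) :
    ((o ∩ o').card = 0 →
      Nat.card ↥(MulAction.stabilizer M24 o ⊓ MulAction.stabilizer M24 o') = 10752) ∧
    ((o ∩ o').card = 4 →
      Nat.card ↥(MulAction.stabilizer M24 o ⊓ MulAction.stabilizer M24 o') = 1152) ∧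
    ((o ∩ o').card = 2 →
      Nat.card ↥(MulAction.stabilizer M24 o ⊓ MulAction.stabilizer M24 o') = 720) := by
  obtain ⟨h0, h4, h2⟩ := ncard_suborbit ho ho'
  have h := ncard_orbit_mul (G := M24) o o'
  rw [card_stabilizer_octad ho] at h
  refine ⟨fun hc => ?_, fun hc => ?_, fun hc => ?_⟩
  · rw [h0 hc] at h
    omega
  · rw [h4 hc] at h
    omega
  · rw [h2 hc] at h
    omega

end Cfsg.Agent.H867.OctadCount
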