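import Cfsg.Agent.H867.OctadCount
import Cfsg.Agent.S1553
import Cfsg.Agent.S1554
import Cfsg.Agent.S0381

/-!
# The joint stabiliser of two octads meeting in two points
-/

set_option autoImplicit false
open scoped Pointwise

namespace Cfsg.Agent.H867.OctadSix

open Cfsg

theorem smul_eq_iff {g : Equiv.Perm GolayPt} {o : Finset GolayPt} :
    g • o = o ↔ ∀ x, g x ∈ o ↔ x ∈ o := by
  constructor
  · intro h x
    conv_lhs => rw [← h]
    exact Finset.smul_mem_smul_finset_iff (s := o) (b := x) g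
  · intro h
    ext x
    rw [Finset.mem_smul_finset]
    constructor
    · rintro ⟨y, hy, rfl⟩
      exact (h y).2 hy
    · intro hx
      refine ⟨g⁻¹ x, ?_, ?_⟩
      · rw [← h]
        simpa using hx
      · show g (g⁻¹ x) = x
        simp

/-- An element fixing an octad induces an even permutation on it. -/
theorem sign_res {g : Equiv.Perm GolayPt} {o : Finset GolayPt} (hg : g ∈ M24) (ho : o ∈ octads)
    (h : ∀ x, g x ∈ o ↔ x ∈ o) : Equiv.Perm.sign (g.subtypePerm h : Equiv.Perm ↥o) = 1 := by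
  have h1 : (g.subtypePerm h : Equiv.Perm ↥o) ∈
      {e : Equiv.Perm ↥o | ∃ g : Equiv.Perm Cfsg.GolayPt, g ∈ Cfsg.M24 ∧
        ∃ h : (∀ x, g x ∈ o ↔ x ∈ o), g.subtypePerm h = e} := ⟨g, hg, h, rfl⟩
  rw [Cfsg.Agent.S1553.result o ho] at h1
  exact Equiv.Perm.mem_alternatingGroup.1 h1

theorem eq_one_of_fix {g : Equiv.Perm GolayPt} {o : Finset GolayPt} (hg : g ∈ M24)
    (ho : o ∈ octads) (hf : ∀ x ∈ o, g x = x) {p : GolayPt} (hp : p ∉ o) (hgp : g p = p) :
    g = 1 := by
  have h := (Cfsg.Agent.S1554.result o ho p hp).1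
  have h1 : g ∈ fixingSubgroup (Equiv.Perm Cfsg.GolayPt) (o : Set Cfsg.GolayPt) := by
    rw [mem_fixingSubgroup_iff]
    intro x hx
    exact hf x hx
  have h2 : g ∈ MulAction.stabilizer (Equiv.Perm Cfsg.GolayPt) o := by
    rw [MulAction.mem_stabilizer_iff, smul_eq_iff]
    intro x
    constructor
    · intro hx
      have h3 := hf _ hx
      have h4 := g.injective h3
      rwa [← h4]
    · intro hx
      rw [hf x hx]
      exact hx
  have h3 : g ∈ (⊥ : Subgroup (Equiv.Perm GolayPt)) := by
    rw [← h]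
    exact ⟨⟨hg, h1⟩, ⟨⟨hg, h2⟩, hgp⟩⟩
  exact Subgroup.mem_bot.1 h3

theorem eq_one {o o' : Finset GolayPt} (ho : o ∈ octads) (ho' : o' ∈ octads)
    (h2 : (o ∩ o').card = 2) {g : Equiv.Perm GolayPt} (hg : g ∈ M24) (h1 : g • o = o)
    (h1' : g • o' = o') (hf : ∀ x ∈ o \ o', g x = x) : g = 1 := by
  have k1 := smul_eq_iff.1 h1
  have k1' := smul_eq_iff.1 h1'
  -- first: `g` fixes `o` pointwise
  have hfo : ∀ x ∈ o, g x = x := by
    have hs := sign_res hg ho k1
    set e : Equiv.Perm ↥o := g.subtypePerm k1 with he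
    have hsub : e.support ⊆ (o ∩ o').subtype (· ∈ o) := by
      intro x hx
      rw [Finset.mem_subtype, Finset.mem_inter]
      refine ⟨x.2, ?_⟩
      by_contra hxo'
      rw [Equiv.Perm.mem_support] at hx
      apply hx
      ext1
      exact hf x (Finset.mem_sdiff.2 ⟨x.2, hxo'⟩)
    have hcard : e.support.card ≤ 2 := by
      refine (Finset.card_le_card hsub).trans ?_
      rw [Finset.card_subtype, ← h2]
      exact Finset.card_filter_le _ _
    have he1 : e = 1 := by
      by_contra hne
      have h3 := Equiv.Perm.two_le_card_support_of_ne_one hne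
      have h4 : e.support.card = 2 := le_antisymm hcard h3
      have h5 := Equiv.Perm.card_support_eq_two.1 h4
      rw [h5.sign_eq] at hs
      exact absurd hs (by decide)
    intro x hx
    have h3 := congrArg (fun f : Equiv.Perm ↥o => ((f ⟨x, hx⟩ : ↥o) : GolayPt)) he1
    exact h3
  -- second: a fixed point outside `o`
  have hsq : g * g = 1 := by
    apply (Cfsg.Agent.S0381.result o ho).2 g
    refine Subgroup.mem_inf.2 ⟨hg, ?_⟩
    rw [mem_fixingSubgroup_iff]
    exact fun x hx => hfo x hx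
  have hs := sign_res hg ho' k1'
  set e : Equiv.Perm ↥o' := g.subtypePerm k1' with he
  have hesq : e ^ 2 = 1 := by
    apply Equiv.ext
    intro x
    apply Subtype.ext
    show (g ((g x : GolayPt)) : GolayPt) = x
    have h3 := congrArg (fun f : Equiv.Perm GolayPt => f x) hsq
    exact h3
  by_contra hne
  have hfix : ∀ x : ↥o', e x = x ↔ (x : GolayPt) ∈ o := by
    intro x
    constructor
    · intro hx
      by_contra hxo
      apply hne
      refine eq_one_of_fix hg ho hfo hxo ?_
      exact congrArg Subtype.val hx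
    · intro hx
      ext1
      exact hfo _ hx
  have hcf : Fintype.card (Function.fixedPoints e) = 2 := by
    rw [← h2, ← Fintype.card_coe]
    refine Fintype.card_congr ⟨fun x => ⟨x.1, ?_⟩, fun x => ⟨⟨x.1, ?_⟩, ?_⟩, ?_, ?_⟩
    · exact Finset.mem_inter.2 ⟨(hfix x.1).1 x.2, x.1.2⟩
    · exact (Finset.mem_inter.1 x.2).2
    · exact (hfix _).2 (Finset.mem_inter.1 x.2).1
    · intro x; rfl
    · intro x; rfl
  rw [Equiv.Perm.sign_of_pow_two_eq_one hesq, hcf, Fintype.card_coe, ho'.2] at hs
  exact absurd hs (by decide)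

/-- The action on the six points of `o \ o'`. -/
def res (o o' : Finset GolayPt) :
    ↥(MulAction.stabilizer M24 o ⊓ MulAction.stabilizer M24 o') →* Equiv.Perm ↥(o \ o') where
  toFun g := (g.1.1 : Equiv.Perm GolayPt).subtypePerm (p := fun x => x ∈ o \ o') (by
    intro x
    have h1 : (g.1.1 : Equiv.Perm GolayPt) • o = o := g.2.1
    have h2 : (g.1.1 : Equiv.Perm GolayPt) • o' = o' := g.2.2
    rw [Finset.mem_sdiff, Finset.mem_sdiff, smul_eq_iff.1 h1, smul_eq_iff.1 h2])
  map_one' := by
    ext x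
    rfl
  map_mul' g h := by
    ext x
    rfl

theorem res_injective {o o' : Finset GolayPt} (ho : o ∈ octads) (ho' : o' ∈ octads)
    (h2 : (o ∩ o').card = 2) : Function.Injective (res o o') := by
  rw [injective_iff_map_eq_one]
  intro g hg
  have h1 : (g.1.1 : Equiv.Perm GolayPt) = 1 := by
    apply eq_one ho ho' h2 g.1.2 g.2.1 g.2.2
    intro x hx
    have h3 := congrArg (fun f : Equiv.Perm ↥(o \ o') => ((f ⟨x, hx⟩ : ↥(o \ o')) : GolayPt)) hg
    exact h3
  ext1
  ext1
  exact h1

theorem nonempty_mulEquiv {o o' : Finset GolayPt} (ho : o ∈ octads) (ho' : o' ∈ octads)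
    (h2 : (o ∩ o').card = 2) :
    Nonempty (↥(MulAction.stabilizer M24 o ⊓ MulAction.stabilizer M24 o') ≃*
      Equiv.Perm (Fin 6)) := by
  have hc : (o \ o').card = 6 := by
    have h3 := Finset.card_sdiff_add_card_inter o o'
    rw [h2, ho.2] at h3
    omega
  have hbij : Function.Bijective (res o o') := by
    rw [Nat.bijective_iff_injective_and_card]
    refine ⟨res_injective ho ho' h2, ?_⟩
    rw [(Cfsg.Agent.H867.OctadCount.card_joint ho ho').2.2 h2, Nat.card_perm,
      Nat.card_eq_fintype_card, Fintype.card_coe, hc]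
    rfl
  exact ⟨(MulEquiv.ofBijective (res o o') hbij).trans
    (Equiv.permCongrHom (Finset.equivFinOfCardEq hc))⟩

end Cfsg.Agent.H867.OctadSix
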