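import Cfsg.Agent.H867.Engine

/-!
# The certificates of the engine for the sporadic groups and the Tits group
-/

set_option autoImplicit false
set_option maxRecDepth 100000

namespace Cfsg.Agent.H867.SporCheck

open Cfsg.Agent.H867.Engine

/-- `M11` -/
theorem prod_M11 : prodL [(2, 4), (3, 2), (5, 1), (11, 1)] = 7920 := by decide +kernel

theorem M11 : check [(2, 4), (3, 2), (5, 1), (11, 1)] 7920 1 5
    [.V, .V, .V, .V, .V, .V] = true := by decide +kernel

/-- `M12` -/
theorem prod_M12 : prodL [(2, 6), (3, 3), (5, 1), (11, 1)] = 95040 := by decide +kernel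

theorem M12 : check [(2, 6), (3, 3), (5, 1), (11, 1)] 95040 2 5
    [.V, .V, .V, .V, .V, .V, (.K [11, 5]), (.K [11]), .D, .D] = true := by decide +kernel

/-- `M22` -/
theorem prod_M22 : prodL [(2, 7), (3, 2), (5, 1), (7, 1), (11, 1)] = 443520 := by decide +kernel

theorem M22 : check [(2, 7), (3, 2), (5, 1), (7, 1), (11, 1)] 443520 2 5
    [.V, .V, .V, .V, .V, .V, (.J 7), (.J 7), .D, (.J 11), (.J 11), (.J 11)] = true := by decide +kernel

/-- `M23` -/
theorem prod_M23 : prodL [(2, 7), (3, 2), (5, 1), (7, 1), (11, 1), (23, 1)] = 10200960 := by decide +kernel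

theorem M23 : check [(2, 7), (3, 2), (5, 1), (7, 1), (11, 1), (23, 1)] 10200960 1 5
    [.V, .V, .V, .V, .V, .V, .V, .V, .V, .V, .V, .V, .V, .V, .V] = true := by decide +kernel

/-- `M24` -/
theorem prod_M24 : prodL [(2, 10), (3, 3), (5, 1), (7, 1), (11, 1), (23, 1)] = 244823040 := by decide +kernel

theorem M24 : check [(2, 10), (3, 3), (5, 1), (7, 1), (11, 1), (23, 1)] 244823040 1 5
    [.V, .V, .V, .V, .V, .V, .V, .V, .V, .V, .V, .V, .V, .V, .V, .V, .V, .V, (.K [23]), (.K [23])] = true := by decide +kernel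

/-- `J1` -/
theorem prod_J1 : prodL [(2, 3), (3, 1), (5, 1), (7, 1), (11, 1), (19, 1)] = 175560 := by decide +kernel

theorem J1 : check [(2, 3), (3, 1), (5, 1), (7, 1), (11, 1), (19, 1)] 175560 1 5
    [.V, .V, .V, .V, .V, .V, .V, .V, .V, .V] = true := by decide +kernel

/-- `J2` -/
theorem prod_J2 : prodL [(2, 7), (3, 3), (5, 2), (7, 1)] = 604800 := by decide +kernel

theorem J2 : check [(2, 7), (3, 3), (5, 2), (7, 1)] 604800 2 5
    [.V, .V, .V, .V, .V, (.J 7), .D, (.J 7), .D, (.K [7, 5]), (.K [7, 5]), (.K [7]), .D] = true := by decide +kernel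

/-- `J3` -/
theorem prod_J3 : prodL [(2, 7), (3, 5), (5, 1), (17, 1), (19, 1)] = 50232960 := by decide +kernel

theorem J3 : check [(2, 7), (3, 5), (5, 1), (17, 1), (19, 1)] 50232960 2 5
    [.V, .V, .V, .V, .V, .V, .V, .V, .V, .V, .V, .V, .V, .V, (.K [19, 17]), (.J 17), .D, .D, .D] = true := by decide +kernel

/-- `HS` -/
theorem prod_HS : prodL [(2, 9), (3, 2), (5, 3), (7, 1), (11, 1)] = 44352000 := by decide +kernel

theorem HS : check [(2, 9), (3, 2), (5, 3), (7, 1), (11, 1)] 44352000 2 5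
    [.V, .V, .V, .V, .V, .V, .V, .V, .V, .V, (.J 11), (.J 11), .D, (.J 11), .D, (.J 11), (.J 11), (.K [11])] = true := by decide +kernel

/-- `McL` -/
theorem prod_McL : prodL [(2, 7), (3, 6), (5, 3), (7, 1), (11, 1)] = 898128000 := by decide +kernel

theorem McL : check [(2, 7), (3, 6), (5, 3), (7, 1), (11, 1)] 898128000 2 5
    [.V, .V, .V, .V, .V, .V, .V, .V, .V, .V, (.J 11), (.J 11), .D, (.J 11), .D, (.J 11), (.J 11), (.K [11, 7]), .D, (.K [11, 7]), (.K [11]), .D] = true := by decide +kernel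

/-- `He` -/
theorem prod_He : prodL [(2, 10), (3, 3), (5, 2), (7, 3), (17, 1)] = 4030387200 := by decide +kernel

theorem He : check [(2, 10), (3, 3), (5, 2), (7, 3), (17, 1)] 4030387200 2 5
    [.V, .V, .V, .V, .V, .V, .V, .V, .V, .V, .V, .V, .V, .V, .V, .V, (.J 17), .D, .D, (.J 17), (.J 17), .D, (.J 17), (.J 17), .D] = true := by decide +kernel

/-- `Ru` -/
theorem prod_Ru : prodL [(2, 14), (3, 3), (5, 3), (7, 1), (13, 1), (29, 1)] = 145926144000 := by decide +kernel

theorem Ru : check [(2, 14), (3, 3), (5, 3), (7, 1), (13, 1), (29, 1)] 145926144000 1 5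
    [.V, .V, .V, .V, .V, .V, .V, .V, .V, .V, .V, .V, .V, .V, .V, .V, .V, .V, .V, .V, .V, .V, .V, .V, (.K [29]), (.K [29]), .D, (.J 29), .D] = true := by decide +kernel

/-- `Suz` -/
theorem prod_Suz : prodL [(2, 13), (3, 7), (5, 2), (7, 1), (11, 1), (13, 1)] = 448345497600 := by decide +kernel

theorem Suz : check [(2, 13), (3, 7), (5, 2), (7, 1), (11, 1), (13, 1)] 448345497600 2 27
    [(.K [13, 11]), (.K [13, 11]), .D, (.K [13, 11]), .D, (.K [13, 11]), (.K [13, 11]), .D, (.K [13])] = true := by decide +kernel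

/-- `ON` -/
theorem prod_ON : prodL [(2, 9), (3, 4), (5, 1), (7, 3), (11, 1), (19, 1), (31, 1)] = 460815505920 := by decide +kernel

theorem ON : check [(2, 9), (3, 4), (5, 1), (7, 3), (11, 1), (19, 1), (31, 1)] 460815505920 2 5
    [.V, .V, .V, .V, .V, .V, .V, .V, .V, .V, .V, .V, .V, .V, .V, .V, .V, .V, .V, .V, .V, .V, .V, .V, .V, .V, (.J 19), (.J 19), (.J 19), .D, (.J 31)] = true := by decide +kernel

/-- `Co3` -/
theorem prod_Co3 : prodL [(2, 10), (3, 7), (5, 3), (7, 1), (11, 1), (23, 1)] = 495766656000 := by decide +kernel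

theorem Co3 : check [(2, 10), (3, 7), (5, 3), (7, 1), (11, 1), (23, 1)] 495766656000 1 5
    [.V, .V, .V, .V, .V, .V, .V, .V, .V, .V, .V, .V, .V, .V, .V, .V, .V, .V, (.K [23, 11, 7]), (.K [23, 11]), (.K [23, 11]), .D, (.J 23), (.J 23), .D, (.J 23), .D, (.J 23), (.J 23), .D] = true := by decide +kernel

/-- `Co2` -/
theorem prod_Co2 : prodL [(2, 18), (3, 6), (5, 3), (7, 1), (11, 1), (23, 1)] = 42305421312000 := by decide +kernel

theorem Co2 : check [(2, 18), (3, 6), (5, 3), (7, 1), (11, 1), (23, 1)] 42305421312000 1 100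
    [] = true := by decide +kernel

/-- `Fi22` -/
theorem prod_Fi22 : prodL [(2, 17), (3, 9), (5, 2), (7, 1), (11, 1), (13, 1)] = 64561751654400 := by decide +kernel

theorem Fi22 : check [(2, 17), (3, 9), (5, 2), (7, 1), (11, 1), (13, 1)] 64561751654400 2 100
    [] = true := by decide +kernel

/-- `HN` -/
theorem prod_HN : prodL [(2, 14), (3, 6), (5, 6), (7, 1), (11, 1), (19, 1)] = 273030912000000 := by decide +kernel

theorem HN : check [(2, 14), (3, 6), (5, 6), (7, 1), (11, 1), (19, 1)] 273030912000000 2 5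
    [.V, .V, .V, .V, .V, .V, .V, .V, .V, .V, .V, .V, .V, .V, .V, .V, .V, .V, .V, .V, (.J 19), .D, (.J 19), (.J 19), .D, (.J 19), .D, (.J 19), (.J 19), .D, (.J 19), (.J 19), .D, (.K [19, 11]), .D, (.K [19, 11]), .D, (.K [19]), .D, (.K [19])] = true := by decide +kernel

/-- `Ly` -/
theorem prod_Ly : prodL [(2, 8), (3, 7), (5, 6), (7, 1), (11, 1), (31, 1), (37, 1), (67, 1)] = 51765179004000000 := by decide +kernel

theorem Ly : check [(2, 8), (3, 7), (5, 6), (7, 1), (11, 1), (31, 1), (37, 1), (67, 1)] 51765179004000000 1 5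
    [.V, .V, .V, .V, .V, .V, .V, .V, .V, .V, .V, .V, .V, .V, .V, .V, .V, .V, .V, .V, .V, .V, .V, .V, .V, .V, .V, .V, .V, .V, .V, .V, .V, .V, .V, .V, .V, .V, .V, .V, .V, .V, .V, .V, .V, .V] = true := by decide +kernel

/-- `Th` -/
theorem prod_Th : prodL [(2, 15), (3, 10), (5, 3), (7, 2), (13, 1), (19, 1), (31, 1)] = 90745943887872000 := by decide +kernel

theorem Th : check [(2, 15), (3, 10), (5, 3), (7, 2), (13, 1), (19, 1), (31, 1)] 90745943887872000 1 5
    [.V, .V, .V, .V, .V, .V, .V, .V, .V, .V, .V, .V, .V, .V, .V, .V, .V, .V, .V, .V, .V, .V, .V, .V, .V, .V, (.J 19), (.J 19), .D, .D, (.J 31), (.J 31), .D, (.J 31), (.J 31), (.J 31), .D, (.J 31), .D, .D, (.J 31), .D, .D, (.J 31), (.J 31), (.J 31), .D] = true := by decide +kernel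

/-- `Fi23` -/
theorem prod_Fi23 : prodL [(2, 18), (3, 13), (5, 2), (7, 1), (11, 1), (13, 1), (17, 1), (23, 1)] = 4089470473293004800 := by decide +kernel

theorem Fi23 : check [(2, 18), (3, 13), (5, 2), (7, 1), (11, 1), (13, 1), (17, 1), (23, 1)] 4089470473293004800 1 100
    [] = true := by decide +kernel

/-- `Co1` -/
theorem prod_Co1 : prodL [(2, 21), (3, 9), (5, 4), (7, 2), (11, 1), (13, 1), (23, 1)] = 4157776806543360000 := by decide +kernel

theorem Co1 : check [(2, 21), (3, 9), (5, 4), (7, 2), (11, 1), (13, 1), (23, 1)] 4157776806543360000 1 100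
    [] = true := by decide +kernel

/-- `J4` -/
theorem prod_J4 : prodL [(2, 21), (3, 3), (5, 1), (7, 1), (11, 3), (23, 1), (29, 1), (31, 1), (37, 1), (43, 1)] = 86775571046077562880 := by decide +kernel

theorem J4 : check [(2, 21), (3, 3), (5, 1), (7, 1), (11, 3), (23, 1), (29, 1), (31, 1), (37, 1), (43, 1)] 86775571046077562880 1 5
    [.V, .V, .V, .V, .V, .V, .V, .V, .V, .V, .V, .V, .V, .V, .V, .V, .V, .V, .V, .V, .V, .V, .V, .V, .V, .V, .V, .V, .V, .V, .V, .V, .V, .V, .V, .V, .V, .V, (.J 37), (.J 37), (.J 37), (.J 43), .D, (.J 43), .D, .D, .D, .D, .D, (.J 43), (.J 43), (.J 43), .D, (.J 43), .D, (.J 43), .D] = true := by decide +kernel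

/-- `Fi24` -/
theorem prod_Fi24 : prodL [(2, 21), (3, 16), (5, 2), (7, 3), (11, 1), (13, 1), (17, 1), (23, 1), (29, 1)] = 1255205709190661721292800 := by decide +kernel

theorem Fi24 : check [(2, 21), (3, 16), (5, 2), (7, 3), (11, 1), (13, 1), (17, 1), (23, 1), (29, 1)] 1255205709190661721292800 2 150
    [] = true := by decide +kernel

/-- `B` -/
theorem prod_B : prodL [(2, 41), (3, 13), (5, 6), (7, 2), (11, 1), (13, 1), (17, 1), (19, 1), (23, 1), (31, 1), (47, 1)] = 4154781481226426191177580544000000 := by decide +kernel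

theorem B : check [(2, 41), (3, 13), (5, 6), (7, 2), (11, 1), (13, 1), (17, 1), (19, 1), (23, 1), (31, 1), (47, 1)] 4154781481226426191177580544000000 1 200
    [] = true := by decide +kernel

/-- `M` -/
theorem prod_M : prodL [(2, 46), (3, 20), (5, 9), (7, 6), (11, 2), (13, 3), (17, 1), (19, 1), (23, 1), (29, 1), (31, 1), (41, 1), (47, 1), (59, 1), (71, 1)] = 808017424794512875886459904961710757005754368000000000 := by decide +kernel

theorem M : check [(2, 46), (3, 20), (5, 9), (7, 6), (11, 2), (13, 3), (17, 1), (19, 1), (23, 1), (29, 1), (31, 1), (41, 1), (47, 1), (59, 1), (71, 1)] 808017424794512875886459904961710757005754368000000000 1 300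
    [] = true := by decide +kernel

/-- `Tits` -/
theorem prod_Tits : prodL [(2, 11), (3, 3), (5, 2), (13, 1)] = 17971200 := by decide +kernel

theorem Tits : check [(2, 11), (3, 3), (5, 2), (13, 1)] 17971200 2 5
    [.V, .V, .V, .V, .V, .V, .V, .V, .V, .V, .V, (.J 13), .D, (.J 13), .D, (.J 13), .D] = true := by decide +kernel

end Cfsg.Agent.H867.SporCheck
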