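import Mathlib
import Cfsg.Agent.S2060
import Cfsg.Agent.S2061
import Cfsg.Agent.S2062
import Cfsg.Agent.S2063
import Cfsg.Agent.S2064
import Cfsg.Agent.S2065
import Cfsg.Agent.S2066
import Cfsg.Agent.S2067
import Cfsg.Agent.S2068
import Cfsg.Agent.S2071
import Cfsg.Agent.S2073
import Cfsg.Agent.S2072
import Cfsg.Agent.S2075
import Cfsg.Agent.S2077
import Cfsg.Agent.S2078
import Cfsg.Agent.S2076
import Cfsg.Agent.S2082
import Cfsg.Agent.S2083
import Cfsg.Agent.NotCT.Orders
import Cfsg.Agent.H867.TitsOut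
import Cfsg.Agent.H867.MinIdx
import Cfsg.Agent.H867.SporCheck

/-!
# `IdxOK` for the sporadic groups which need nothing but the order, and the Tits group
-/

set_option autoImplicit false

namespace Cfsg.Agent.H867.SporRowsA

open Cfsg Cfsg.Agent.H539 Cfsg.Agent.H867.Engine Cfsg.Agent.H867.MinIdx Cfsg.Agent.H867.SporCheck

universe u v

/-- a row of the table, with an index bound -/
theorem row {T : Type u} [Group T] [Finite T] [IsSimpleGroup T] (hT : ¬ IsMulCommutative T)
    {S : Type v} [Group S] (e : T ≃* S) {o N b : ℕ} (ho : Nat.card (Cfsg.Out S) ≤ o)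
    (hN : Nat.card T = N) {L : List (ℕ × ℕ)} {ρs : List Rule} (hNL : prodL L = N)
    (hc : check L N o b ρs = true) (hL : ∀ x ∈ L, x.1.Prime) (h5 : 5 ≤ b)
    (hb : ∀ K : Subgroup T, K ≠ ⊤ → b ≤ K.index) : IdxOK T := by
  refine of_check hT ?_ L hL hN hNL h5 hb ρs hc
  rwa [H55.OutGen.card_out_congr e]

/-- a row of the table, without index bound -/
theorem row5 {T : Type u} [Group T] [Finite T] [IsSimpleGroup T] (hT : ¬ IsMulCommutative T)
    {S : Type v} [Group S] (e : T ≃* S) {o N : ℕ} (ho : Nat.card (Cfsg.Out S) ≤ o)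
    (hN : Nat.card T = N) {L : List (ℕ × ℕ)} {ρs : List Rule} (hNL : prodL L = N)
    (hc : check L N o 5 ρs = true) (hL : ∀ x ∈ L, x.1.Prime) (h24 : 24 < N) : IdxOK T :=
  row hT e ho hN hNL hc hL le_rfl (five_le (by rw [hN]; exact h24))

variable {T : Type u} [Group T] [Finite T] [IsSimpleGroup T] (hT : ¬ IsMulCommutative T)

include hT

theorem m11 (h : Spor.IsoM11 T) : IdxOK T := by
  have hN := NotCT.Orders.m11 h
  obtain ⟨e⟩ := h
  exact row5 hT e (le_of_eq Cfsg.Agent.S2060.result) hN SporCheck.prod_M11 SporCheck.M11 (by norm_num) (by norm_num)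

theorem m12 (h : Spor.IsoM12 T) : IdxOK T := by
  have hN := NotCT.Orders.m12 h
  obtain ⟨e⟩ := h
  exact row5 hT e (le_of_eq Cfsg.Agent.S2061.result) hN SporCheck.prod_M12 SporCheck.M12 (by norm_num) (by norm_num)

theorem m22 (h : Spor.IsoM22 T) : IdxOK T := by
  have hN := NotCT.Orders.m22 h
  obtain ⟨e⟩ := h
  exact row5 hT e (le_of_eq Cfsg.Agent.S2062.result) hN SporCheck.prod_M22 SporCheck.M22 (by norm_num) (by norm_num)

theorem m23 (h : Spor.IsoM23 T) : IdxOK T := by
  have hN := NotCT.Orders.m23 h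
  obtain ⟨e⟩ := h
  exact row5 hT e (le_of_eq Cfsg.Agent.S2063.result) hN SporCheck.prod_M23 SporCheck.M23 (by norm_num) (by norm_num)

theorem m24 (h : Spor.IsoM24 T) : IdxOK T := by
  have hN := NotCT.Orders.m24 h
  obtain ⟨e⟩ := h
  exact row5 hT e (le_of_eq Cfsg.Agent.S2064.result) hN SporCheck.prod_M24 SporCheck.M24 (by norm_num) (by norm_num)

theorem j1 (h : Spor.IsoJ1 T) : IdxOK T := by
  have hN := NotCT.Orders.j1 h
  obtain ⟨e⟩ := h
  exact row5 hT e (le_of_eq Cfsg.Agent.S2065.result) hN SporCheck.prod_J1 SporCheck.J1 (by norm_num) (by norm_num)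

theorem j2 (h : Spor.IsoJ2 T) : IdxOK T := by
  have hN := NotCT.Orders.j2 h
  obtain ⟨e⟩ := h
  exact row5 hT e (le_of_eq Cfsg.Agent.S2066.result) hN SporCheck.prod_J2 SporCheck.J2 (by norm_num) (by norm_num)

theorem j3 (h : Spor.IsoJ3 T) : IdxOK T := by
  have hN := NotCT.Orders.j3 h
  obtain ⟨F, _, _, ω, hF, hω, ⟨e⟩⟩ := h
  exact row5 hT e (le_of_eq (Cfsg.Agent.S2067.result hF ω hω)) hN prod_J3 J3 (by norm_num) (by norm_num)

theorem j4 (h : Spor.IsoJ4 T) : IdxOK T := by
  have hN := NotCT.Orders.j4 h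
  obtain ⟨e⟩ := h
  exact row5 hT e (le_of_eq Cfsg.Agent.S2068.result) hN SporCheck.prod_J4 SporCheck.J4 (by norm_num) (by norm_num)

theorem co3 (h : Spor.IsoCo3 T) : IdxOK T := by
  have hN := NotCT.Orders.co3 h
  obtain ⟨e⟩ := h
  exact row5 hT e (le_of_eq Cfsg.Agent.S2071.result) hN SporCheck.prod_Co3 SporCheck.Co3 (by norm_num) (by norm_num)

theorem mcl (h : Spor.IsoMcL T) : IdxOK T := by
  have hN := NotCT.Orders.mcl h
  obtain ⟨e⟩ := h
  exact row5 hT e (le_of_eq Cfsg.Agent.S2073.result) hN SporCheck.prod_McL SporCheck.McL (by norm_num) (by norm_num)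

theorem hs (h : Spor.IsoHS T) : IdxOK T := by
  have hN := NotCT.Orders.hs h
  obtain ⟨e⟩ := h
  exact row5 hT e (le_of_eq Cfsg.Agent.S2072.result) hN SporCheck.prod_HS SporCheck.HS (by norm_num) (by norm_num)

theorem he (h : Spor.IsoHe T) : IdxOK T := by
  have hN := NotCT.Orders.he h
  obtain ⟨e⟩ := h
  exact row5 hT e (le_of_eq Cfsg.Agent.S2075.result) hN SporCheck.prod_He SporCheck.He (by norm_num) (by norm_num)

theorem ru (h : Spor.IsoRu T) : IdxOK T := by
  have hN := NotCT.Orders.ru h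
  obtain ⟨e⟩ := h
  exact row5 hT e (le_of_eq Cfsg.Agent.S2077.result) hN SporCheck.prod_Ru SporCheck.Ru (by norm_num) (by norm_num)

theorem on (h : Spor.IsoON T) : IdxOK T := by
  have hN := NotCT.Orders.on h
  obtain ⟨e⟩ := h
  exact row5 hT e (le_of_eq Cfsg.Agent.S2078.result) hN SporCheck.prod_ON SporCheck.ON (by norm_num) (by norm_num)

theorem ly (h : Spor.IsoLy T) : IdxOK T := by
  have hN := NotCT.Orders.ly h
  obtain ⟨e⟩ := h
  exact row5 hT e (le_of_eq Cfsg.Agent.S2076.result) hN SporCheck.prod_Ly SporCheck.Ly (by norm_num) (by norm_num)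

theorem hn (h : Spor.IsoHN T) : IdxOK T := by
  have hN := NotCT.Orders.hn h
  obtain ⟨e⟩ := h
  exact row5 hT e (le_of_eq Cfsg.Agent.S2082.result) hN SporCheck.prod_HN SporCheck.HN (by norm_num) (by norm_num)

theorem th (h : Spor.IsoTh T) : IdxOK T := by
  have hN := NotCT.Orders.th h
  obtain ⟨e⟩ := h
  exact row5 hT e (le_of_eq Cfsg.Agent.S2083.result) hN SporCheck.prod_Th SporCheck.Th (by norm_num) (by norm_num)

theorem tits (h : Lie.IsoTits T) : IdxOK T := by
  have hN := NotCT.Orders.tits h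
  exact row5 hT (MulEquiv.refl T) (TitsOut.card_out_le h) hN SporCheck.prod_Tits SporCheck.Tits
    (by norm_num) (by norm_num)

end Cfsg.Agent.H867.SporRowsA
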