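import Mathlib
import Cfsg.Agent.H811.SuzCov
import Cfsg.Agent.H811.PsuH
import Cfsg.Agent.H934.IdxPSU
import Cfsg.Agent.S1694
import Cfsg.Agent.H867.MinIdx

/-!
# The index bound for the sporadic Suzuki group, from `3·U₄(3)`
-/

set_option autoImplicit false

namespace Cfsg.Agent.H867.SporSuz

open Cfsg Cfsg.Agent.H867.MinIdx

theorem mi_H : MI LThreeCo1Twelve.Gam.H 27 := by
  obtain ⟨F, _, _, hF, ⟨e⟩⟩ := H811.PsuH.psu
  have hs : IsSimpleGroup LThreeCo1Twelve.Gam.H := LThreeCo1Twelve.Gam.simple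
  have hfin : Finite (PSU 4 F 3) := inferInstance
  have hfin' : Finite LThreeCo1Twelve.Gam.H := Finite.of_equiv _ e.symm.toEquiv
  apply MI.of_index
  intro K hK
  exact H934.IdxPSU.pow_le_index (F := F) (n := 4) (q := 3) (by rw [hF]; norm_num) (by norm_num) e K hK

/-- **the index bound** -/
theorem suz : MI Spor.Suz 27 := by
  have hs : IsSimpleGroup Spor.Suz := S1694.result.1
  obtain ⟨g, hg, hk⟩ := H811.SuzCov.cov
  have hnc := LThreeCo1Twelve.Gam.not_comm
  obtain ⟨a, b, hab⟩ : ∃ a b : LThreeCo1Twelve.Gam.H, a * b ≠ b * a := by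
    by_contra h
    push Not at h
    exact hnc ⟨⟨h⟩⟩
  obtain ⟨x, rfl⟩ := hg a
  obtain ⟨y, rfl⟩ := hg b
  refine mi_H.of_hom_central g hg ?_ (Subgroup.subtype _) (x := x) (y := y) ?_
  · intro c hc
    have h1 := (hk c).1 hc
    rw [Subgroup.mem_center_iff]
    intro d
    apply Subtype.ext
    have h2 : (d : Spor.Suz) * SuzThree.ThreeWr.y0 = SuzThree.ThreeWr.y0 * d :=
      Subgroup.mem_centralizer_singleton_iff.1 d.2
    obtain ⟨n, hn⟩ := Subgroup.mem_zpowers_iff.1 h1
    have h3 : Commute (d : Spor.Suz) SuzThree.ThreeWr.y0 := h2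
    have h4 := h3.zpow_right n
    rw [hn] at h4
    exact h4
  · intro h
    apply hab
    rw [← map_mul, ← map_mul]
    congr 1
    exact Subtype.ext h

end Cfsg.Agent.H867.SporSuz
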