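import Mathlib
import Cfsg.Agent.S2074
import Cfsg.Agent.S2069
import Cfsg.Agent.S2070
import Cfsg.Agent.S2079
import Cfsg.Agent.S2080
import Cfsg.Agent.S2081
import Cfsg.Agent.S2084
import Cfsg.Agent.S2085
import Cfsg.Agent.H867.SporRowsA
import Cfsg.Agent.H867.SporMI
import Cfsg.Agent.H867.SporSuz

/-!
# `IdxOK` for the sporadic groups which need an index bound
-/

set_option autoImplicit false

namespace Cfsg.Agent.H867.SporRowsB

open Cfsg Cfsg.Agent.H539 Cfsg.Agent.H867.Engine Cfsg.Agent.H867.MinIdx Cfsg.Agent.H867.SporCheck Cfsg.Agent.H867.SporRowsA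

universe u v

variable {T : Type u} [Group T] [Finite T] [IsSimpleGroup T] (hT : ¬ IsMulCommutative T)

include hT

theorem suz (h : Spor.IsoSuz T) : IdxOK T := by
  have hN := NotCT.Orders.suz h
  obtain ⟨e⟩ := h
  exact row hT e (le_of_eq Cfsg.Agent.S2074.result) hN SporCheck.prod_Suz SporCheck.Suz (by norm_num) (by norm_num)
    (fun K hK => le_trans (by norm_num) ((MI.congr SporSuz.suz e.symm).index K hK))

theorem co1 (h : Spor.IsoCo1 T) : IdxOK T := by
  have hN := NotCT.Orders.co1 h
  obtain ⟨e⟩ := h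
  exact row hT e (le_of_eq Cfsg.Agent.S2069.result) hN SporCheck.prod_Co1 SporCheck.Co1 (by norm_num) (by norm_num)
    (fun K hK => le_trans (by norm_num) ((MI.congr SporMI.co1 e.symm).index K hK))

theorem co2 (h : Spor.IsoCo2 T) : IdxOK T := by
  have hN := NotCT.Orders.co2 h
  obtain ⟨e⟩ := h
  have hs : IsSimpleGroup Spor.Co2 := e.symm.isSimpleGroup
  exact row hT e (le_of_eq Cfsg.Agent.S2070.result) hN SporCheck.prod_Co2 SporCheck.Co2 (by norm_num) (by norm_num)
    (fun K hK => le_trans (by norm_num) ((MI.congr (SporMI.co2 hs) e.symm).index K hK))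

theorem fi22 (h : Spor.IsoFi22 T) : IdxOK T := by
  have hN := NotCT.Orders.fi22 h
  obtain ⟨e⟩ := h
  exact row hT e (le_of_eq Cfsg.Agent.S2079.result) hN SporCheck.prod_Fi22 SporCheck.Fi22 (by norm_num) (by norm_num)
    (fun K hK => le_trans (by norm_num) ((MI.congr SporMI.fi22 e.symm).index K hK))

theorem fi23 (h : Spor.IsoFi23 T) : IdxOK T := by
  have hN := NotCT.Orders.fi23 h
  obtain ⟨e⟩ := h
  exact row hT e (le_of_eq Cfsg.Agent.S2080.result) hN SporCheck.prod_Fi23 SporCheck.Fi23 (by norm_num) (by norm_num)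
    (fun K hK => le_trans (by norm_num) ((MI.congr SporMI.fi23 e.symm).index K hK))

theorem fi24 (h : Spor.IsoFi24' T) : IdxOK T := by
  have hN := NotCT.Orders.fi24 h
  obtain ⟨e⟩ := h
  exact row hT e (le_of_eq Cfsg.Agent.S2081.result) hN SporCheck.prod_Fi24 SporCheck.Fi24 (by norm_num) (by norm_num)
    (fun K hK => le_trans (by norm_num) ((MI.congr SporMI.fi24 e.symm).index K hK))

theorem b (h : Spor.IsoB T) : IdxOK T := by
  have hN := NotCT.Orders.b h
  obtain ⟨e⟩ := h
  exact row hT e (le_of_eq Cfsg.Agent.S2084.result) hN SporCheck.prod_B SporCheck.B (by norm_num) (by norm_num)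
    (fun K hK => le_trans (by norm_num) ((MI.congr SporMI.baby e.symm).index K hK))

theorem m (h : Spor.IsoM T) : IdxOK T := by
  have hN := NotCT.Orders.m h
  obtain ⟨e⟩ := h
  exact row hT e (le_of_eq Cfsg.Agent.S2085.result) hN SporCheck.prod_M SporCheck.M (by norm_num) (by norm_num)
    (fun K hK => le_trans (by norm_num) ((MI.congr SporMI.monster e.symm).index K hK))

end Cfsg.Agent.H867.SporRowsB
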