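import Mathlib
import Cfsg.Agent.H539.TabAsm
import Cfsg.Agent.H867.SporRowsA
import Cfsg.Agent.H867.SporRowsB

/-!
# The rows `sporadic` and `tits` of the table for `k(S) ≤ 2^(n-1)`
-/

set_option autoImplicit false

namespace Cfsg.Agent.H867.SporRows

open Cfsg Cfsg.Agent.H539

theorem sporadic : RowOf (fun T _ => IsSporadicGroup T) := by
  intro T _ _ _ hT h
  rcases h with h | h | h | h | h | h | h | h | h | h | h | h | h | h | h | h | h | h | h |
    h | h | h | h | h | h | h
  · exact SporRowsA.m11 hT h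
  · exact SporRowsA.m12 hT h
  · exact SporRowsA.m22 hT h
  · exact SporRowsA.m23 hT h
  · exact SporRowsA.m24 hT h
  · exact SporRowsA.j1 hT h
  · exact SporRowsA.j2 hT h
  · exact SporRowsA.j3 hT h
  · exact SporRowsA.j4 hT h
  · exact SporRowsB.co1 hT h
  · exact SporRowsB.co2 hT h
  · exact SporRowsA.co3 hT h
  · exact SporRowsA.mcl hT h
  · exact SporRowsA.hs hT h
  · exact SporRowsB.suz hT h
  · exact SporRowsA.he hT h
  · exact SporRowsA.ru hT h
  · exact SporRowsA.on hT h
  · exact SporRowsA.ly hT h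
  · exact SporRowsB.fi22 hT h
  · exact SporRowsB.fi23 hT h
  · exact SporRowsB.fi24 hT h
  · exact SporRowsA.hn hT h
  · exact SporRowsA.th hT h
  · exact SporRowsB.b hT h
  · exact SporRowsB.m hT h

theorem tits : RowOf (fun T _ => Lie.IsoTits T) := by
  intro T _ _ _ hT h
  exact SporRowsA.tits hT h

end Cfsg.Agent.H867.SporRows
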