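import Cfsg.Agent.H834.AGrp
import Cfsg.Agent.H424.Spr.Core
import Cfsg.Agent.R01.Fi22Facts

/-!
# `Spr Fi22` (helper867, task 5127, S3938, hub helper609)

`s` is an element of order 22, `z = s ^ 11` a transposition, `Δ` the set of the 3510 transpositions. A subgroup `K` containing `s` and
moving `z` contains a transposition `t` not commuting with `z`: the orbit of `z` under `K` is invariant under `s`, and every orbit of
`s` on the transpositions commuting with `z` contains a noncommuting pair. For each of the 128 orbits of `s` on the transpositions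
`t` not commuting with `z` a path shows `⟨s, t⟩ = Fi22`. Hence the centralizer of `z` is the only maximal subgroup containing `s`.
-/

set_option autoImplicit false
set_option maxRecDepth 100000
set_option exponentiation.threshold 5000
set_option linter.constructorNameAsVariable false
set_option linter.style.longLine false

namespace Cfsg.Agent.H867.SprFi22

open Cfsg.Spor Cfsg.Spor.Fi22 Cfsg.Agent.Lib.PermNet Cfsg.Agent.Lib.PermNetOrbit Cfsg.Agent.Lib.PermNetFix
open Cfsg.Agent.Fischer Cfsg.Agent.Fischer.Fi22PtsRep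
open Cfsg.Agent.H834 Cfsg.Agent.H834.AC

/-! ### The data -/

/-- an element of order 22 -/
def sw : List Gen := [.g, .h, .i, .d, .f, .a, .c, .h, .d, .e, .b]

/-- carries the point `0` to the point `p0` -/
def zw : List Gen := [.i, .f, .e, .d, .h, .g, .e, .f, .c, .d, .e, .b, .c, .d, .h, .i, .f, .d, .e, .b, .c, .d, .h, .g, .f, .e, .d, .c, .b]

/-- the point of the transposition `s ^ 11` -/
def p0 : ℕ := 3069

/-- the word of the transposition with the point `w 0` times `s ^ k` -/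
def refW (w : List Gen) (k : ℕ) : List Gen := w ++ (.a :: (w.reverse ++ rep k sw))

/-- consecutive points of an orbit of `s` -/
noncomputable def chainB (l : List ℕ) : ℕ → Bool :=
  List.rec (motive := fun _ => ℕ → Bool) (fun _ => true) (fun q _ ih p => and (Nat.beq (ptWord (nw sw) p) q) (ih q)) l

/-- the points of a list are added to a mask -/
noncomputable def maskL (l : List ℕ) : ℕ → ℕ :=
  List.rec (motive := fun _ => ℕ → ℕ) (fun M => M) (fun q _ ih M => seq (Nat.lor M (Nat.shiftLeft 1 q)) ih) l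

/-- a path ending in the mask -/
noncomputable def pathB (w : List Gen) (M : ℕ) (l : List (ℕ × ℕ)) : ℕ → Bool :=
  List.rec (motive := fun _ => ℕ → Bool) (fun p => tb M p)
    (fun e _ ih p => and (Nat.beq (ptWord (nw (refW w e.1)) p) e.2) (ih e.2)) l

/-- an orbit of `s` with a path into the mask: word of the first point, first point, other points, path -/
abbrev Ent := List Gen × ℕ × List ℕ × List (ℕ × ℕ)

/-- check of a list of orbits -/
noncomputable def runB (es : List Ent) : ℕ → ℕ → Bool :=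
  List.rec (motive := fun _ => ℕ → ℕ → Bool) (fun M T => Nat.beq M T)
    (fun e _ ih M T => and (Nat.beq (ptWord (nw e.1) 0) e.2.1) (and (pathB e.1 M e.2.2.2 e.2.1)
      (and (chainB e.2.2.1 e.2.1) (seqB (maskL (e.2.1 :: e.2.2.1) M) fun M' => ih M' T)))) es

/-- check of a list of orbits of transpositions commuting with `z`: word of the first point, first point, other points, exponent -/
noncomputable def runC (es : List (List Gen × ℕ × List ℕ × ℕ)) : ℕ → ℕ → Bool :=
  List.rec (motive := fun _ => ℕ → ℕ → Bool) (fun M T => Nat.beq M T)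
    (fun e _ ih M T => and (Nat.beq (ptWord (nw e.1) 0) e.2.1)
      (and (Nat.beq (ptWord (nw (refW zw 0)) e.2.1) e.2.1)
      (and (seqB (ptWord (nw (rep e.2.2.2 sw)) e.2.1) fun q => !(Nat.beq (ptWord (nw (refW e.1 0)) q) q))
      (and (chainB e.2.2.1 e.2.1) (seqB (maskL (e.2.1 :: e.2.2.1) M) fun M' => ih M' T))))) es

/-- the first orbit -/
def bw : List Gen := [.c, .a, .b]

def bp : ℕ := 4

def bl : List ℕ :=
  [92, 16, 90, 46, 87, 276, 1200, 3168, 2851, 3437, 3186, 2828, 2839, 3249, 3205, 3362, 1897, 747, 325, 95, 14]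

def M0 : ℕ := 0x20000000000000000004000000000000000000000000000200000000002000040001000000000000000000000000000000000000000000000000000000000000000000000000000000080080100000000000000000000000000000000000000000000000000000000000000000000000000000000000000000000000000000000000000000000000000000000000000000000000000000000000000000000000000000000000000000000000000000000000000000000000000000000000000002000000000000000000000000000000000000000000000000000000000000000000000000000000000000000000000000000000000000000000000000000000000000000000000000000000000000000000000000000001000000000000000000000000000000000000000000000000000000000000000000000000000000000000000000000000000000000000000008000000000000000000000000000000000000000000000000000000000000000000000000000000000000000000000000000000002000000000001000000000000000000000000000000000000000000000948000000000400000014010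

def M1 : ℕ := 0x4000a0200400200620018000100004080004000000020000080000024000000242000440002091a5028560000004402a1000801004000000004000a0010000100001001800000100800404000008204000480088131100001415442420009021100004920038002000000600208002301004000000082d000200000840114007000004148400000400000082200080000100001000000000010104000a20000008100000000000120824000280100000001048200000c00100080880008c0a50041030010040020002208210000000200080200000010104000000040005080022010002000000000200004080000404008001100000000402000000001008200080a00102010000c000108d42004000412400a400a00000002000400000004300020000100408040001041808000401140000100102000008020489002000000000000010000104000240102008400088010080500280040d100010600000200020804001000000050014800002001000000000004400100000840802000080001001200c0004800400003081220208804140106044202002801804000400208084904808e440000000dc8080001001c03980035337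

def M2 : ℕ := 0xc4080a060040120062401810312002488040504050006000008040202400a8022c20084501025f1a54a8571000024522a1108a41004800500024801a001000190000120180000018080040c00000a20c008480188bf110010b43d4424220490213260869a0039013400c00700208022781005000040082d00620010884011400f0000841c8410a0040000408620008000090000d000024404118104402a6000000a10000004000012892c200280100000001048206000c08128080c80019c0a51c410300900400310022082180000002010862a00121329042140000c204508002241008b04200405420000609400040460802118400001340204004000114c22a0c0a01106010400c340189d46014401512410a504a1400140a40040040083630082004011048804006106180804044d9502851011420088089316890020050000101000100601a4d0425112240c600088310490d21380040d1000136001003100a899420900000007201c8401022410200c0000804408100422840c22a278c060b0a1620c0004820520023081a2460a8151401460c4253002881e0420e600e388ccb66808e440004442df92c4001105c13b80035337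

def M3 : ℕ := 0x2d4880e062044120266c0181039201348804050405040683400a040202400a852ac600c458506df1e74ac571240024522a1108a4320481050102da01a0012001900001a018008c018280042c00004a20d0084809c8bf110650b43d442c220c93213660869a803d073450c8470020a12a781007000070083f80ea481298401145cf0000847c8731b4860400448620028000090060d01022e404118304412e6088400a300000040080128b2e2002811c0040601b48206a02c081a8190c84199caa51c45070290040071022208a3802000420108e2a00927b2d342161008c20550aa4225d128b04200405624144e09418040c75802918c2108134024c00400011cdeea0c2a41186c10400d3441cbd5f816501512410f504e9500140b440420488836f00c200c811258a44286106180884444d950285901542848a29db1f890020050025983000116635b4d072d39224cc6000c83944d2f21380044d1210176e55123120a8f9728940840007a01c8449caa410200d0006c244081c2522860c32a278ea60bee3629c0c048205200230c1a2560ea155481c63c42f7052889e6620f6d0e389ccb76828f440284443df92c5801995c1bb80075b37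

def M4 : ℕ := 0x2d48a9e4620441a1266e418363b20934a904050425040683420a05021b503af5fece82c4faf07df1f76ad57124c836566a531aa4321581050582da03a10138119e0001a018908c038684062c44a64a20d0096809cebf1106d0b53d5c2cb20cd379b660869aa07d27b570c8470260a13a7b10c7080070a83fc0ea4812b8589145cf0609a67e8739b48744014586a04384030d0060d03022e41491ab84c12f68c8400a310000440080138bee220a955c9240625f48216a02c09bac190c841d9eba53d65074a900c0671022a08a780a840420108e3a04967b2d342961898f285d0aa4a25d129b44244c2566414ce0941c060c75916918c23185b6424c84491015ddfeb1c2a6179ed10600d3441dbd5f896501512410f784eb5e0140b4e046078887ef40c200c851a58a642c6106180e95444d954385903572c48a29fb1f9900246d00259c38403166b5b4d072d3d274cc61c8c839c4d2f3138c045d1719176ed5123124edfb728940a40007a03c8c4bcea41060ad0a26d24418dc2522970c36b67cea68bfe7669c8c97830d209336c1aa565fa15d681c63ec2ff0d288be6630f6d4e3b9ccb7682cf440294443df93dd801995c9bf8007db77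

def M5 : ℕ := 0x2d48bbec620451a92e6f419363f20d36b9cc052425149e83e30a05821b547af5feee9acffbf87dfff76af57127cc37f67a5b5ba4b21595172582da43a9713a15de0001a018b08d0b86c4062e44ef4a24d01968adeebf1986d8b57f5c2cf20cd3f9b660a69fa0ff27b572c8470270a73a7bb0c7180071ac3fc8ea7a96bedb9545cf360da67ebf39bca76c0345c6a043a48bed5670d03622e41491abc4c13f6eca505a7508214460a0138bee6b0a95dc934766df58a17b0ad69bac1d1c841d9ebbd3de5876b900c067902ea48a78ca94442010ce3a14de7b2d7429618d8f2ddf4abca3dd12db45e45ca56e495ce0941d060c75d36918e27d85bee34cc4dd1215dfffb1cba697bed5d702d3441dbddfe97d0151a618f784eb5e0144b7e04627a887ef40e3c0c871a78a642d6716180e95444dd54b85907d72c68a29fb5f9b00247d0365bc38c231e6ffb4d072dbf374cd61c8dc79c4daf3138c2c5d37591feed512b125edff72c940b40087e83ccd4bcea59860ed0a67d2663cde65a2970cb7b77ceb68bff76edcdc9fc30d64d33ec3ae565fa35dea1c63ec2ff0d2f8be6732f6d4e3b9ccb76c2cf6612b6c4bff93dd805995dfbf8007db77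

def M6 : ℕ := 0x2d48bbec6a0571a92e7f41977bfe0d36b9ce05a4e754dee3e78a05821f5c7af5feee9bfffbf97dfff7eaf57927dc37f67a7b5badf695951725c2da47a9717a35de4041a019b08d2b86f4062e64ff4a37d01968efeebf1b96dcf57f5dbcfa8cd3f9b664a6bfb9ff27b57aca474270a73a7bb1e7180071bc3fc8eafe9ebfdb9545cf360fa67fbfb9bdaf6c0fd5e6b1c3e48fed56f0f03622e45691bbccd1ff7ecad05a7588216468a11b8fee6b0ab5df9f476eff59e77b1af6bbec1d1e84bd9ffbd7de5876f9a0cc67b02ea4cb78cb946460decebe3dfefbad762be19d8f2ddf6ebca7fd3edf65e75de77e4ddee0945d060c7fd76bb8e27d85bfeb4cc6df9215dffff9ebafb7fef7d712ff461dffdfe97d2351efbdf7a4eb7e2be4bfe8c62fb887ff40f3c4cc71afee65bd6f1e5c9e956c4dd5cb85907f72c6ee29ff5fdb30347d4365bcb8c233e6ffb4f873dbf776ed71ccdd7bd4def31ffc2fdf37799fffd717b125efff76c951bc019fec3ccd4bfeb5b860ef0a67d267bcdff5a2971cf7f7fdebecbff7eedcdc9fe34d64dbbec3bed67fa3dfeabe63ec2ff0daf8fe6772f6f6ebb9eebf6c2cf6f1ffec4bff97ddae5f97dfbf891fdf77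

def M7 : ℕ := 0x2ddebbfc6a1573ab2e7f699ffbfe0f3fb9ce07b4e754dee3ef8f05865fdc7af7ffffdbfffbf97dffffeaf5f9a7dd7ffffb7f5fadfe95971765c6da67a9717ab5de5043a419f18d2b86fc072f64ff5b37d4dd7aeffebf1bfffcf5ff5dbcfe8cf3fdf66db6bfbdff27b57adb4762fcb73e7bb1e7798071febfd9eafe9effdbbdc5efbe0fb6ffffbdbfafec1fd5e6b5c7ed8ffd57f8f23e23e47699ffdef1fffecad05a7dace1646aad1bcfeeff5af5dfdfdf6effd9effbdef6bbec1d1e84bfdffff7ffd976f9b1cc67b96ebccb7edb966478decebe7dffffbffe2fe19f8f7fdf6efca7ff7fff77e75de7fe4ddee0d45d2e0c7fd76ffae27f85bfef4cd6df9235dffffbebffb7fefff712ff4f7fffdfeb7d2371effdf7a4effe2be4bfe8f7afb887ff48fbccec7befff65ffef9e5dded56c4dfdeb85b4fffbc6ee2bffdfdbb03cff4365feb8c233f7fff5faf3dbf7feef71ceff7ff5fff39ffc2fdfbf799fffd757fb27effffed953bc01bfecfecd4bfff5b861ffaa67f377fcdfffa6d79df7f7ffeffdbff7efdcfddfe7ed7cdbbec3bed77febdfeebe6fee6ff9faf8ffe772f7f6efbdffbf6faefef9ffed4fff97dfafffb7dfbfb97fdf7f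

def M8 : ℕ := 0x2dfffffefe57f3ebae7f799fffff8fbffdeea7f5e754dfe3ef8f05865fdc7ef7ffffdffffbfffdfffffeffffbfdf7fffff7f7fbdfff79797e5ceda77bd757af5fed4c7a519f1cd2bc6fdf72f74ffdb77fcdd7aefffffbffffefdff5ffcff8ff3fffeffb6bfbffff7f77affc7fbfdf73e7bb5e7f986f1febff9ebfedefffbbfdfffbe1fb7ffffbdbfffecbfd7e7b7fffdbfff5ffbfe7eb3f5769dffdff9ffffced05efdade7e5fabd5ffffeffdff5dfdfdfffffdfeffffff6fbfe1d1ea4fffffff7fff9f6f9b1cc67f96ebccb7efb966c79fecebf7dfffffffe2fe19fcfffffffffe7ffffffffe75fe7fefddeebdcfd2f2c7fd7fffae27fb5ffff4cd6dfd237fffffbebffb7ffffff92ffcf7fffdfeb7d2b71effff7b6fffe2becbfeaf7bfb9d7ffd8fbeffcffeffffdffff9f7ffed76d6ffdeba5fefffbd7fe3bfffffff03effc77dffbac73bfffff7fef3dbf7feeff1ceff7ffdfffb9ffcbfffff799fffffdffb37fffffed953bc11bffcfedd6bfffdf861ffab67f3fffcffffaed79dfff7ffefffffffeffcfddfffed7fdbfee3bed77febdffebe6feefffdfbf8ffe772fff6efbfffbf6faefefdffff4fff97dfafffb7dfbfb9ffdf7f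

def es0 : List Ent := [
  ([.d, .e, .c, .d, .h, .i, .h, .d, .e, .b, .c, .d, .h, .f, .e, .d, .c, .b], 767, [865, 852, 2245, 1979, 2711, 3082, 1746, 2604, 1949, 2788, 3031, 2494, 2510, 1363, 1025, 986, 1099, 2007, 2149, 2155, 1372], [(2, 3362)]),
  ([.b, .c, .d, .h, .i, .e, .c, .d, .h, .g, .f, .e, .d, .c, .b], 362, [811, 1154, 1320, 908, 518, 1285, 1461, 2164, 2557, 1417, 1615, 1476, 2069, 2552, 2084, 1003, 616, 769, 815, 1108, 1120], [(2, 1949)]),
  ([.b, .c, .d, .h, .i, .e, .c, .d, .h, .f, .e, .d, .c, .b], 303, [671, 744, 2266, 2555, 1253, 1560, 1728, 2127, 2877, 3123, 1575, 618, 564, 1390, 2637, 2796, 2784, 3246, 2741, 2344, 1362], [(1, 2084)]),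
  ([.f, .d, .e, .c, .d, .h, .g, .f, .e, .d, .c, .b], 175, [677, 602, 780, 845, 1709, 2385, 2736, 2765, 2691, 2594, 2824, 3477, 2996, 2964, 2450, 3191, 1926, 1705, 882, 500, 514], [(1, 2127)]),
  ([.i, .h, .f, .e, .d, .c, .b], 37, [135, 245, 1238, 2820, 1972, 3029, 3138, 2714, 2219, 2613, 2500, 3121, 2650, 3165, 2391, 3329, 2927, 1522, 717, 375, 126], [(2, 744)]),
  ([.b, .c, .d, .h, .i, .e, .c, .d, .h, .g, .f, .e, .d, .c, .a, .b], 408, [740, 1778, 1977, 3386, 2976, 2418, 2748, 1696, 1114, 1138, 1082, 2075, 3134, 2612, 1913, 1845, 1314, 2047, 2554, 1447, 782], [(1, 2164)]),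
  ([.d, .h, .f, .e, .d, .c, .b], 36, [253, 288, 1164, 1881, 3441, 2496, 3016, 2936, 2825, 2631, 2693, 2381, 2773, 2751, 3222, 1556, 3046, 1831, 746, 313, 156], [(2, 740)]),
  ([.h, .i, .h, .d, .e, .b, .c, .d, .h, .f, .e, .d, .c, .b], 294, [321, 467, 1408, 1358, 2906, 3226, 2786, 2963, 3453, 3241, 2794, 2677, 2692, 2480, 2816, 2617, 1353, 754, 1342, 724, 335], [(1, 1845)]),
  ([.a, .b], 2, [9, 162, 577, 2280, 3424, 3116, 2251, 1206, 1821, 2870, 3125, 2782, 1991, 1986, 1974, 2367, 3103, 1893, 1107, 210, 8], [(4, 2075)]),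
  ([], 0, [12, 94, 150, 1201, 1439, 3196, 2835, 2770, 2458, 2732, 3177, 3502, 2883, 1367, 1317, 983, 888, 269, 134, 17, 1], [(1, 9)]),
  ([.i, .c, .d, .e, .b, .c, .d, .h, .f, .e, .d, .c, .b], 231, [439, 976, 1147, 604, 862, 1044, 2019, 3404, 1948, 1681, 800, 420, 1391, 718, 1185, 1586, 1437, 2447, 3199, 2708, 1360], [(2, 2794)]),
  ([.h, .d, .e, .c, .d, .h, .f, .e, .d, .c, .b], 147, [340, 693, 2537, 3487, 2481, 1962, 1594, 2515, 3485, 2161, 2212, 1956, 1066, 479, 159, 181, 328, 286, 270, 791, 395], [(2, 2447)]),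
  ([.g, .f, .e, .d, .c, .a, .b], 31, [91, 47, 35, 133, 457, 1068, 1730, 3442, 3184, 2649, 2272, 1424, 3278, 3170, 2778, 1641, 378, 405, 139, 474, 194], [(2, 159)]),
  ([.i, .c, .d, .h, .e, .d, .c, .b], 60, [219, 662, 1298, 2249, 2563, 3466, 3189, 3166, 3092, 2452, 2129, 1876, 1622, 2046, 1303, 2324, 3307, 1723, 830, 341, 167], [(2, 3170)]),
  ([.d, .c, .b], 5, [130, 394, 220, 233, 258, 965, 2116, 2705, 3175, 2032, 1987, 2442, 2854, 3379, 2482, 1513, 1301, 262, 79, 32, 48], [(1, 219)]),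
  ([.a, .b, .c, .d, .h, .i, .e, .d, .h, .f, .e, .d, .c, .b], 307, [648, 979, 1792, 3281, 2914, 1936, 993, 599, 1326, 1287, 1784, 2011, 1032, 1072, 1467, 1887, 2078, 3423, 3192, 2146, 835], [(1, 2481)])]

def es1 : List Ent := [
  ([.i, .c, .d, .h, .f, .e, .d, .c, .a, .b], 102, [357, 1191, 2827, 2680, 1528, 1734, 2463, 2663, 2725, 2290, 1226, 1074, 507, 453, 1264, 1747, 1255, 1126, 490, 369, 218], [(1, 2078)]),
  ([.b, .c, .d, .h, .g, .f, .e, .d, .c, .b], 106, [401, 664, 932, 557, 199, 573, 988, 2871, 1939, 3132, 2787, 3212, 3107, 2754, 3408, 3263, 3360, 2262, 1290, 263, 153], [(1, 979)]),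
  ([.f, .e, .b, .c, .d, .h, .i, .e, .b, .c, .d, .h, .f, .e, .d, .c, .b], 617, [720, 1050, 3066, 3506, 2726, 2284, 3253, 2347, 1702, 2621, 3101, 2662, 3383, 3049, 3346, 1793, 1090, 1328, 1160, 1418, 1071], [(1, 2290)]),
  ([.b, .c, .d, .h, .f, .e, .d, .c, .b], 81, [318, 360, 1804, 2039, 1428, 3416, 3129, 1968, 1741, 1988, 3265, 3220, 1610, 692, 314, 149, 193, 430, 274, 415, 227], [(1, 2284)]),
  ([.g, .f, .e, .d, .h, .i, .e, .c, .d, .h, .f, .e, .d, .c, .a, .b], 423, [461, 1402, 2398, 3112, 3202, 1992, 1836, 1113, 849, 1470, 1966, 1555, 954, 444, 688, 1525, 2327, 2935, 2859, 1250, 783], [(1, 3265)]),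
  ([.i, .d, .e, .c, .d, .h, .f, .e, .d, .c, .a, .b], 166, [182, 250, 721, 794, 1344, 1612, 1787, 856, 292, 547, 704, 1801, 2592, 2826, 2831, 2253, 1205, 2159, 3370, 1817, 898], [(1, 1992)]),
  ([.d, .e, .b, .c, .d, .h, .g, .f, .e, .d, .c, .b], 171, [205, 248, 651, 1446, 3182, 2797, 3478, 2999, 2451, 3267, 3231, 3344, 2152, 2713, 1908, 996, 183, 345, 406, 594, 603], [(1, 783)]),
  ([.d, .e, .c, .d, .h, .i, .f, .e, .d, .h, .g, .f, .e, .d, .c, .a, .b], 527, [1308, 1453, 876, 1324, 952, 1015, 2729, 3032, 3409, 3197, 2840, 3401, 1912, 1875, 3330, 2574, 2524, 3043, 3507, 2061, 1078], [(1, 2592)]),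
  ([.i, .f, .e, .d, .h, .g, .f, .e, .d, .c, .a, .b], 163, [198, 176, 429, 829, 3098, 3298, 1773, 1826, 1674, 1466, 1524, 2147, 2431, 2907, 3247, 3495, 2973, 2519, 1768, 485, 466], [(2, 2032)]),
  ([.i, .d, .e, .c, .d, .h, .g, .f, .e, .d, .c, .b], 177, [438, 1338, 1075, 1658, 1967, 1455, 1371, 1036, 1125, 445, 897, 985, 1494, 1650, 3160, 3064, 2542, 2429, 1354, 1030, 668], [(2, 692)]),
  ([.f, .e, .d, .h, .i, .e, .c, .d, .h, .f, .e, .d, .c, .b], 305, [570, 870, 2029, 2707, 3354, 2881, 1766, 772, 885, 879, 1565, 2719, 2279, 1209, 1174, 1550, 2217, 2611, 1262, 1687, 805], [(1, 2542)]),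
  ([.i, .f, .e, .b, .c, .d, .h, .g, .f, .e, .d, .c, .b], 217, [327, 788, 834, 2141, 2386, 2674, 3000, 2436, 1472, 777, 1382, 446, 1151, 1296, 1057, 1582, 1825, 2010, 1364, 768, 842], [(2, 2537)]),
  ([.e, .c, .d, .h, .i, .f, .e, .d, .h, .g, .f, .e, .d, .c, .a, .b], 413, [667, 1064, 878, 1796, 2614, 2305, 1208, 992, 1669, 2733, 2326, 1055, 1680, 804, 1278, 1819, 3456, 2804, 2799, 1621, 924], [(1, 2674)]),
  ([.d, .h, .f, .e, .d, .c, .a, .b], 50, [197, 56, 546, 244, 675, 584, 1581, 1683, 1457, 2062, 2298, 1506, 3079, 3141, 1646, 999, 613, 1011, 449, 421, 110], [(3, 1650)]),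
  ([.d, .e, .c, .d, .b, .c, .a, .b], 40, [157, 455, 2027, 2302, 1215, 887, 481, 860, 1385, 2483, 3179, 2761, 2648, 3164, 2789, 3289, 2186, 2676, 1648, 443, 74], [(1, 197)]),
  ([.d, .h, .e, .d, .c, .a, .b], 33, [89, 154, 88, 97, 78, 679, 296, 1384, 1048, 1789, 3434, 3198, 3200, 2829, 2688, 2541, 3389, 2246, 1280, 657, 84], [(3, 50)])]

def es2 : List Ent := [
  ([.c, .d, .h, .e, .d, .c, .a, .b], 52, [55, 168, 661, 579, 1157, 890, 931, 2120, 3154, 1996, 2059, 1780, 2081, 1034, 1958, 998, 387, 409, 634, 249, 117], [(3, 1382)]),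
  ([.e, .d, .c, .a, .b], 11, [18, 141, 995, 2593, 1995, 2838, 2806, 3190, 2619, 2629, 2730, 3435, 2020, 1300, 798, 750, 1018, 1638, 2301, 1246, 236], [(1, 52)]),
  ([.b, .c, .d, .h, .i, .h, .c, .d, .e, .b, .c, .d, .h, .g, .f, .e, .d, .c, .b], 838, [863, 2031, 2670, 3327, 1901, 1535, 1219, 938, 1133, 1233, 2551, 3041, 2531, 2490, 3473, 2744, 1700, 3219, 2668, 1645, 941], [(1, 3453)]),
  ([.i, .f, .d, .e, .c, .d, .h, .g, .f, .e, .d, .c, .a, .b], 251, [722, 1603, 3320, 2543, 2539, 1414, 1464, 1202, 892, 984, 493, 869, 1441, 2690, 3089, 1434, 1276, 1142, 901, 935, 737], [(2, 3477)]),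
  ([.d, .h, .i, .e, .b, .c, .d, .h, .g, .f, .e, .d, .c, .b], 275, [655, 1341, 1623, 2441, 2868, 2153, 2886, 1714, 1719, 1689, 1462, 2115, 3338, 3509, 2454, 1983, 1351, 1095, 670, 306, 473], [(2, 249)]),
  ([.i, .d, .h, .e, .d, .c, .b], 39, [71, 246, 301, 1047, 714, 2843, 1786, 904, 529, 521, 1576, 2432, 1721, 2488, 2428, 2440, 2016, 2810, 1587, 732, 132], [(1, 275)]),
  ([.d, .h, .i, .e, .c, .d, .h, .f, .e, .d, .c, .a, .b], 209, [498, 884, 2951, 3258, 2771, 2755, 3044, 3445, 3499, 2333, 1877, 1580, 1760, 1941, 1355, 1551, 2002, 2309, 2175, 1171, 435], [(1, 3338)]),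
  ([.d, .h, .i, .e, .c, .d, .h, .f, .e, .d, .c, .b], 190, [685, 214, 639, 575, 2303, 2553, 1252, 710, 419, 460, 855, 2521, 3251, 3242, 2809, 2946, 2909, 3318, 1797, 893, 399], [(1, 2309)]),
  ([.i, .f, .e, .d, .h, .g, .f, .e, .d, .b, .c, .a, .b], 196, [238, 839, 590, 660, 386, 715, 713, 1423, 2093, 1578, 1131, 781, 706, 2273, 3486, 3072, 3206, 2659, 1471, 499, 396], [(1, 460)]),
  ([.b, .c, .d, .h, .i, .h, .d, .e, .c, .d, .h, .g, .f, .e, .d, .c, .b], 582, [814, 1336, 1632, 1807, 1302, 2250, 2572, 2573, 2423, 1356, 3230, 2049, 1086, 669, 583, 1000, 2745, 3056, 2102, 1545, 615], [(1, 3072)]),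
  ([.d, .e, .c, .d, .h, .i, .f, .d, .e, .b, .c, .d, .h, .g, .f, .e, .d, .c, .b], 857, [1865, 2334, 3174, 1732, 2213, 2316, 2235, 2256, 1223, 1827, 2230, 3392, 3013, 1370, 1563, 1950, 1510, 1604, 3321, 2239, 1850], [(1, 670)]),
  ([.b, .c, .d, .h, .i, .e, .d, .h, .g, .f, .e, .d, .c, .b], 290, [316, 790, 417, 785, 1190, 1540, 1626, 3388, 3462, 2410, 2083, 1365, 1981, 1352, 2486, 2114, 2682, 2624, 2516, 1415, 936], [(2, 244)]),
  ([.b, .c, .d, .h, .e, .d, .c, .b], 59, [72, 96, 283, 1009, 2703, 1883, 2487, 2426, 2394, 1692, 3093, 1717, 925, 530, 587, 1378, 2453, 1458, 1283, 1152, 191], [(1, 290)]),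
  ([.i, .h, .d, .e, .c, .d, .h, .g, .f, .e, .d, .c, .b], 223, [544, 1914, 2145, 1798, 2057, 1023, 2369, 2080, 1459, 1751, 1698, 3203, 3504, 2975, 2947, 2437, 2929, 3214, 1699, 902, 264], [(1, 2083)]),
  ([.i, .h, .d, .e, .c, .d, .h, .f, .e, .d, .c, .b], 188, [433, 868, 3185, 2681, 2654, 3047, 2417, 3438, 3256, 1630, 697, 418, 414, 1175, 1765, 2556, 1388, 488, 213, 437, 526], [(1, 2057)]),
  ([.i, .e, .c, .d, .h, .f, .e, .d, .c, .b], 115, [152, 265, 987, 1795, 3305, 2534, 3407, 3157, 1463, 1203, 1145, 1286, 1781, 2094, 708, 1507, 646, 334, 1005, 700, 803], [(1, 418)])]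

def es3 : List Ent := [
  ([.g, .f, .e, .d, .h, .i, .e, .c, .d, .h, .g, .f, .e, .d, .c, .a, .b], 524, [1297, 1460, 2208, 3084, 1802, 854, 533, 738, 1566, 3055, 1752, 2131, 2346, 2913, 2565, 1771, 1969, 1739, 1419, 763, 909], [(1, 3157)]),
  ([.c, .d, .e, .a, .b, .c, .d, .h, .i, .f, .e, .d, .h, .g, .f, .e, .d, .c, .b], 930, [1810, 3433, 2517, 3012, 2856, 1536, 1744, 2474, 2507, 1401, 3262, 2767, 2641, 2889, 2374, 2959, 3268, 3204, 2995, 2449, 1521], [(1, 1883)]),
  ([.i, .d, .h, .f, .e, .d, .c, .a, .b], 75, [247, 221, 551, 261, 363, 731, 822, 304, 585, 410, 1088, 2064, 3250, 3252, 2124, 3011, 2922, 2033, 1029, 762, 173], [(3, 1280)]),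
  ([.i, .c, .d, .h, .e, .d, .c, .a, .b], 76, [80, 402, 1295, 1426, 1878, 3413, 2086, 2930, 3215, 3105, 1642, 377, 736, 323, 674, 1234, 351, 537, 458, 427, 186], [(3, 2835)]),
  ([.d, .e, .c, .d, .h, .i, .e, .f, .d, .e, .c, .d, .h, .g, .f, .e, .d, .c, .a, .b], 962, [1097, 1224, 1273, 2750, 3284, 2550, 1420, 1275, 1141, 1098, 1627, 3313, 1858, 2160, 3381, 2994, 2503, 2898, 3296, 1711, 1488], [(1, 1709)]),
  ([.d, .h, .c, .d, .e, .b, .c, .d, .h, .f, .e, .d, .c, .b], 291, [308, 310, 824, 1491, 1659, 3243, 3147, 2685, 2609, 2599, 3137, 3488, 2362, 3033, 2902, 2026, 1022, 539, 846, 1518, 578], [(2, 1273)]),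
  ([.d, .h, .c, .d, .e, .b, .c, .d, .h, .g, .f, .e, .d, .c, .b], 338, [391, 348, 1572, 2956, 3455, 2735, 2352, 3221, 2834, 2792, 2739, 2669, 3395, 2993, 2383, 2435, 3217, 1745, 1484, 819, 383], [(1, 539)]),
  ([.d, .e, .c, .d, .h, .g, .f, .e, .d, .c, .b], 138, [344, 665, 1274, 1412, 3151, 2089, 3080, 2620, 1927, 3239, 3150, 2287, 1198, 1130, 1037, 997, 1943, 3493, 2263, 748, 416], [(1, 2383)]),
  ([.d, .e, .c, .d, .h, .i, .h, .f, .d, .e, .b, .c, .d, .h, .g, .f, .e, .d, .c, .b], 1028, [1653, 1498, 1666, 1347, 2108, 3414, 2701, 2151, 1503, 1662, 2414, 3213, 2694, 2275, 1678, 1863, 3283, 1961, 2238, 2461, 2035], [(1, 2496)]),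
  ([.i, .h, .d, .e, .c, .d, .h, .i, .f, .e, .b, .c, .d, .h, .g, .f, .e, .d, .c, .b], 1062, [1895, 3254, 2672, 1731, 1759, 1602, 1092, 2105, 3430, 2740, 2248, 1281, 1867, 1755, 2457, 2317, 1452, 3004, 3140, 2277, 1210], [(1, 1190)]),
  ([.b, .c, .a, .b], 6, [15, 204, 823, 1593, 2368, 1917, 1684, 1433, 1474, 3261, 3172, 1980, 1985, 2082, 2400, 3223, 1918, 682, 112, 34, 43], [(4, 1792)]),
  ([.i, .f, .c, .d, .e, .b, .c, .d, .h, .g, .f, .e, .d, .c, .b], 337, [678, 1468, 2473, 3417, 1994, 3260, 3108, 2833, 2679, 2608, 2890, 3491, 2598, 1368, 776, 595, 503, 637, 452, 476, 957], [(2, 2551)]),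
  ([.c, .d, .h, .i, .e, .c, .d, .h, .f, .e, .d, .c, .b], 239, [1245, 1247, 2937, 2893, 2243, 2895, 3405, 2807, 3255, 2764, 3126, 3349, 2508, 2392, 3376, 3448, 2122, 923, 958, 450, 508], [(1, 2473)]),
  ([.f, .e, .b, .c, .d, .h, .g, .f, .e, .d, .c, .b], 172, [259, 285, 1448, 2742, 3118, 1527, 1207, 1159, 895, 1820, 2111, 3482, 2638, 2137, 3280, 2118, 3058, 2416, 1541, 376, 549], [(1, 2895)]),
  ([.a, .b, .c, .d, .h, .i, .e, .d, .h, .g, .f, .e, .d, .c, .b], 368, [799, 918, 955, 711, 728, 980, 672, 558, 844, 2467, 1964, 2853, 3024, 3188, 2780, 2779, 1056, 1166, 1530, 1225, 605], [(2, 1385)]),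
  ([.f, .e, .c, .d, .h, .i, .b, .c, .d, .h, .f, .e, .d, .c, .b], 380, [472, 502, 442, 2036, 2292, 3113, 2353, 1425, 2190, 1946, 2464, 3269, 3181, 2271, 2587, 2567, 3276, 2150, 3233, 3130, 1568], [(2, 1166)])]

def es4 : List Ent := [
  ([.g, .f, .e, .d, .h, .i, .e, .c, .d, .h, .f, .e, .d, .c, .b], 390, [719, 1539, 3375, 3319, 2511, 2498, 2042, 2313, 1512, 3074, 2905, 2401, 2342, 2588, 3335, 2241, 3110, 3133, 1182, 859, 534], [(2, 1320)]),
  ([.e, .c, .d, .h, .g, .f, .e, .d, .c, .b], 107, [146, 513, 287, 945, 741, 412, 757, 2119, 3380, 2192, 2847, 1735, 1313, 1517, 891, 1035, 2097, 3136, 1860, 563, 329], [(3, 578)]),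
  ([.f, .e, .d, .h, .g, .f, .e, .d, .c, .b], 109, [208, 229, 1359, 2351, 3124, 1803, 853, 933, 956, 1569, 2513, 1738, 3225, 3146, 1574, 379, 614, 654, 463, 494, 322], [(3, 337)]),
  ([.i, .b, .c, .d, .h, .f, .e, .d, .c, .b], 113, [403, 919, 2018, 1870, 1686, 2173, 2041, 3061, 2504, 1406, 2098, 2568, 3406, 2071, 3227, 1963, 2894, 2626, 1393, 942, 350], [(3, 3000)]),
  ([.f, .d, .e, .c, .d, .h, .i, .f, .c, .d, .e, .b, .c, .d, .h, .g, .f, .e, .d, .c, .b], 1184, [2228, 2233, 3076, 2926, 1523, 1716, 1431, 1635, 1400, 1229, 2340, 2607, 1812, 3274, 2695, 1670, 2087, 2314, 3095, 3104, 2332], [(1, 3138)]),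
  ([.g, .f, .e, .d, .h, .i, .e, .b, .c, .d, .h, .f, .e, .d, .c, .b], 487, [517, 1153, 1465, 1165, 755, 1899, 2704, 3340, 2527, 2998, 1898, 2547, 1410, 903, 806, 497, 1189, 568, 1340, 734, 1121], [(2, 798)]),
  ([.f, .d, .e, .c, .d, .b, .c, .a, .b], 62, [120, 125, 358, 1248, 2939, 2860, 2139, 2514, 1495, 2505, 2815, 2837, 2636, 1549, 1945, 1975, 3385, 3009, 1440, 297, 99], [(3, 734)]),
  ([.g, .f, .e, .d, .h, .i, .d, .e, .f, .c, .d, .e, .b, .c, .d, .h, .g, .f, .e, .d, .c, .b], 1349, [1715, 3173, 2785, 3211, 3236, 2689, 2625, 2888, 2605, 3371, 2142, 2181, 2220, 2562, 1404, 2136, 3270, 1671, 3295, 2957, 1542], [(1, 1587)]),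
  ([.i, .h, .c, .d, .e, .b, .c, .d, .h, .g, .f, .e, .d, .c, .b], 339, [680, 1729, 3432, 2766, 1183, 944, 1038, 448, 1128, 913, 977, 1307, 1456, 1754, 3245, 3152, 1704, 2874, 3115, 1643, 611], [(2, 3270)]),
  ([.h, .c, .d, .e, .b, .c, .d, .h, .f, .e, .d, .c, .b], 230, [432, 832, 2845, 3065, 3020, 3194, 2706, 2270, 1502, 1660, 2466, 2790, 2665, 3394, 3460, 2390, 1911, 1059, 1490, 1339, 456], [(1, 448)]),
  ([.c, .d, .h, .e, .f, .d, .e, .c, .d, .h, .g, .f, .e, .d, .c, .a, .b], 506, [636, 723, 2051, 3357, 2214, 3224, 2944, 2529, 2411, 2443, 3235, 3193, 2252, 2242, 1890, 1655, 1976, 2717, 2197, 1258, 1017], [(2, 755)]),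
  ([.d, .h, .i, .e, .f, .d, .e, .c, .d, .h, .g, .f, .e, .d, .c, .a, .b], 509, [1116, 2044, 3153, 1703, 2355, 3483, 2477, 2104, 1221, 1122, 787, 810, 592, 889, 1519, 894, 1871, 3317, 2891, 1350, 550], [(2, 1744)]),
  ([.h, .i, .e, .f, .d, .e, .c, .d, .h, .g, .f, .e, .d, .c, .b], 354, [374, 1249, 567, 1600, 1538, 3374, 3451, 2743, 2842, 2819, 2350, 1736, 2210, 1955, 3332, 3022, 3021, 3331, 1782, 848, 398], [(1, 1519)]),
  ([.b, .c, .d, .h, .i, .h, .d, .e, .c, .d, .h, .f, .e, .d, .c, .a, .b], 528, [812, 695, 2012, 3492, 2337, 3135, 3312, 2532, 2421, 2427, 3420, 2090, 2096, 1830, 2445, 2182, 2803, 3443, 2222, 1319, 598], [(2, 362)]),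
  ([.i, .d, .e, .c, .d, .h, .g, .f, .e, .d, .c, .a, .b], 201, [228, 666, 1492, 1628, 3216, 1806, 3027, 2203, 3068, 3038, 2533, 1407, 2060, 2476, 2413, 2444, 1672, 1854, 2338, 1443, 623], [(3, 2429)]),
  ([.f, .e, .c, .d, .b, .c, .a, .b], 41, [42, 44, 93, 281, 990, 3002, 3195, 2349, 2522, 1481, 2076, 3489, 2359, 1726, 1421, 2056, 1940, 2365, 1070, 388, 129], [(4, 461)])]

def es5 : List Ent := [
  ([.b, .c, .d, .h, .i, .f, .e, .d, .h, .g, .f, .e, .d, .c, .b], 366, [796, 1318, 2260, 3418, 2289, 2802, 2168, 1909, 3087, 2876, 1579, 1631, 696, 765, 1269, 1063, 2597, 3034, 1767, 786, 1010], [(3, 944)]),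
  ([.d, .e, .c, .d, .h, .f, .e, .d, .c, .b], 114, [273, 324, 279, 295, 673, 468, 1422, 2072, 1497, 2065, 3436, 2091, 1725, 1942, 2366, 2244, 1811, 1665, 1396, 1487, 644], [(4, 765)]),
  ([.b, .c, .d, .h, .i, .f, .e, .c, .d, .h, .g, .f, .e, .d, .c, .b], 462, [1333, 733, 1654, 1557, 1690, 1834, 3282, 2179, 1984, 1808, 2841, 3311, 2424, 2439, 2722, 3403, 1997, 1682, 801, 496, 1188], [(2, 2366)]),
  ([.e, .c, .d, .h, .f, .e, .d, .c, .b], 82, [118, 127, 454, 1999, 1756, 1818, 3412, 2709, 1701, 1880, 2085, 2399, 2776, 1606, 2066, 1315, 2045, 3402, 1923, 1304, 512], [(2, 1690)]),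
  ([.b, .c, .d, .h, .i, .h, .d, .e, .b, .c, .d, .h, .g, .f, .e, .d, .c, .b], 698, [1013, 3054, 1839, 1110, 1329, 1083, 2052, 2700, 3096, 2113, 2335, 2564, 2107, 1220, 1664, 1853, 2154, 3014, 2872, 1251, 770], [(1, 1834)]),
  ([.d, .b, .c, .a, .b], 10, [111, 511, 751, 1135, 1136, 716, 1805, 2512, 2892, 3117, 2846, 2419, 1454, 1293, 1146, 982, 1132, 277, 19, 65, 66], [(5, 908)]),
  ([.e, .c, .d, .h, .i, .e, .f, .d, .e, .b, .c, .d, .h, .g, .f, .e, .d, .c, .b], 850, [1170, 2925, 3411, 2403, 2924, 3475, 3183, 3359, 3461, 2396, 2960, 3464, 1935, 994, 1366, 1886, 1261, 1777, 1561, 1227, 1823], [(1, 1293)]),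
  ([.f, .e, .c, .d, .h, .i, .b, .c, .d, .h, .e, .d, .c, .b], 309, [1239, 1103, 1149, 624, 1377, 1100, 658, 572, 640, 1309, 1429, 2376, 1361, 1970, 2070, 1312, 1413, 2375, 1577, 766, 431], [(1, 1366)]),
  ([.h, .d, .e, .c, .d, .h, .f, .e, .d, .c, .a, .b], 165, [179, 235, 1014, 1243, 2267, 3326, 2990, 3208, 2763, 2325, 3090, 2380, 2646, 3351, 2600, 3345, 3314, 1835, 1115, 818, 289], [(1, 2070)]),
  ([.h, .e, .d, .c, .a, .b], 20, [27, 67, 116, 837, 753, 1520, 905, 1432, 2037, 3232, 3229, 3228, 3350, 2465, 2030, 1311, 1123, 877, 752, 407, 57], [(4, 1377)]),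
  ([.i, .d, .h, .f, .e, .d, .c, .b], 58, [319, 745, 1799, 2448, 2402, 1559, 1435, 1204, 426, 373, 808, 222, 828, 1263, 1677, 2254, 2389, 2535, 1445, 495, 161], [(2, 67)]),
  ([.d, .h, .e, .d, .c, .b], 24, [49, 69, 119, 545, 347, 1515, 580, 610, 1387, 1106, 2523, 2812, 1644, 1306, 1150, 581, 619, 565, 343, 635, 124], [(4, 1377)]),
  ([.d, .e, .c, .d, .h, .i, .b, .c, .d, .h, .g, .f, .e, .d, .c, .b], 447, [705, 1155, 1277, 1833, 3325, 1656, 1489, 973, 727, 875, 1693, 1846, 3369, 2125, 2112, 2294, 2798, 3342, 2901, 1769, 771], [(3, 3317)]),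
  ([.e, .c, .d, .h, .i, .h, .d, .e, .c, .d, .h, .f, .e, .d, .c, .b], 492, [841, 1267, 2696, 3094, 2759, 2657, 3148, 2667, 2163, 2189, 1649, 3163, 3005, 1634, 1982, 2009, 1033, 764, 712, 864, 972], [(3, 909)]),
  ([.g, .f, .e, .c, .d, .h, .i, .e, .b, .c, .d, .h, .f, .e, .d, .c, .b], 620, [1386, 2817, 1625, 1085, 964, 927, 1813, 3275, 2982, 2106, 1722, 1409, 1265, 2207, 2530, 1791, 2941, 2873, 2775, 1570, 950], [(1, 2189)]),
  ([.f, .e, .d, .h, .g, .f, .e, .d, .b, .c, .a, .b], 155, [189, 440, 1389, 2772, 3099, 1451, 1864, 1691, 1838, 2699, 2354, 1933, 1706, 1922, 3334, 2276, 2231, 2255, 1178, 185, 206], [(1, 927)])]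

def es6 : List Ent := [
  ([.f, .e, .c, .d, .h, .g, .f, .e, .d, .c, .a, .b], 160, [237, 548, 1067, 1376, 1783, 1960, 2434, 2140, 1978, 1673, 2884, 3238, 1990, 2211, 2063, 871, 491, 652, 178, 601, 441], [(4, 1846)]),
  ([.c, .d, .h, .i, .e, .d, .h, .f, .e, .d, .c, .b], 192, [1187, 929, 520, 302, 267, 543, 691, 2561, 2811, 2293, 1236, 784, 809, 739, 1800, 2415, 2813, 1558, 991, 434, 400], [(4, 58)]),
  ([.g, .f, .e, .d, .c, .b], 22, [104, 312, 802, 2265, 3050, 3356, 2544, 1373, 1737, 1694, 1785, 1374, 2055, 1024, 2054, 2348, 3290, 3062, 1449, 299, 170], [(1, 929)]),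
  ([.c, .b], 3, [21, 123, 356, 1788, 3429, 1973, 2370, 2485, 3106, 3144, 3128, 2660, 1718, 3037, 2904, 1001, 145, 53, 63, 64, 29], [(3, 802)]),
  ([.f, .e, .d, .b, .c, .a, .b], 28, [61, 98, 355, 847, 2304, 3457, 2589, 3142, 3503, 2199, 1742, 1411, 3419, 3498, 2645, 3286, 3304, 1740, 833, 144, 164], [(3, 739)]),
  ([.h, .f, .c, .d, .e, .b, .c, .d, .h, .i, .e, .f, .d, .e, .c, .d, .h, .g, .f, .e, .d, .c, .b], 1685, [1844, 3427, 2455, 1959, 2177, 2698, 2970, 2425, 2378, 2639, 2134, 2749, 3007, 2863, 2202, 1794, 3315, 2923, 1857, 2067, 1868], [(1, 312)]),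
  ([.h, .d, .e, .b, .c, .d, .h, .g, .f, .e, .d, .c, .b], 215, [254, 382, 880, 1042, 2283, 3468, 2849, 1553, 1993, 2205, 3120, 2499, 2360, 1688, 1874, 3384, 3073, 1814, 1094, 975, 240], [(4, 1227)]),
  ([.i, .b, .c, .d, .h, .g, .f, .e, .d, .c, .b], 137, [510, 1104, 1134, 1045, 1438, 2836, 3500, 2247, 1282, 1144, 900, 934, 216, 257, 792, 574, 1436, 2050, 1027, 370, 243], [(3, 3073)]),
  ([.f, .c, .d, .e, .b, .c, .d, .h, .g, .f, .e, .d, .c, .b], 266, [541, 478, 1069, 1237, 3187, 3167, 2321, 2331, 1932, 2720, 3393, 2274, 1279, 1158, 576, 424, 689, 641, 1161, 1325, 621], [(1, 243)]),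
  ([.f, .e, .a, .b, .c, .d, .h, .i, .e, .f, .d, .e, .b, .c, .d, .h, .g, .f, .e, .d, .c, .b], 1405, [2261, 2862, 2559, 2404, 2132, 2143, 2475, 2858, 1562, 1952, 2460, 3279, 1647, 1928, 3240, 3497, 2479, 1514, 2634, 2866, 2501], [(2, 1134)]),
  ([.c, .d, .h, .f, .e, .d, .c, .a, .b], 73, [282, 681, 2977, 3139, 2171, 2138, 2079, 2808, 3244, 2791, 3127, 3415, 2738, 2158, 1907, 2583, 3159, 1597, 694, 131, 143], [(1, 2143)]),
  ([.g, .f, .e, .d, .h, .i, .c, .d, .h, .g, .f, .e, .d, .c, .b], 365, [1127, 1232, 1231, 2268, 2103, 2912, 3449, 2635, 3114, 2618, 2716, 3361, 2880, 2584, 2590, 1614, 1477, 963, 817, 384, 813], [(2, 2475)]),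
  ([.d, .e, .c, .d, .h, .i, .f, .e, .d, .h, .g, .f, .e, .d, .c, .b], 471, [1697, 2446, 2958, 1902, 2628, 2952, 2518, 873, 606, 953, 1039, 1779, 1891, 2495, 2723, 2762, 1595, 2198, 1179, 1676, 797], [(2, 1597)]),
  ([.e, .c, .d, .h, .i, .f, .e, .d, .h, .g, .f, .e, .d, .c, .b], 367, [1119, 789, 663, 464, 489, 775, 1195, 2548, 2988, 1770, 1129, 702, 428, 552, 1163, 1310, 1843, 3306, 1369, 1500, 959], [(2, 2958)]),
  ([.f, .e, .c, .d, .h, .i, .e, .f, .c, .d, .e, .b, .c, .d, .h, .g, .f, .e, .d, .c, .b], 1173, [2656, 1753, 3248, 3387, 2363, 2805, 1537, 1904, 2110, 2734, 3484, 2336, 2315, 2099, 2566, 2100, 1892, 3257, 3131, 2278, 2170], [(1, 1770)]),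
  ([.f, .e, .c, .d, .h, .i, .e, .c, .d, .h, .f, .e, .d, .c, .b], 389, [1379, 743, 1148, 896, 1061, 1965, 2852, 2126, 886, 482, 516, 525, 1345, 3091, 2814, 1873, 1031, 607, 843, 1102, 659], [(2, 2100)])]

def es7 : List Ent := [
  ([.h, .f, .e, .d, .c, .b], 23, [105, 108, 831, 1564, 2300, 1216, 939, 1105, 1199, 3171, 3496, 2259, 1289, 1516, 899, 1837, 2296, 1109, 342, 169, 122], [(2, 525)]),
  ([.g, .f, .d, .e, .b, .c, .d, .h, .i, .h, .f, .d, .e, .b, .c, .d, .h, .g, .f, .e, .d, .c, .b], 1611, [1743, 2180, 3006, 2823, 2777, 3169, 2643, 1998, 1679, 1851, 2038, 2887, 2372, 2384, 2821, 2345, 2818, 2658, 2371, 2456, 1957], [(1, 2988)]),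
  ([.i, .h, .d, .e, .b, .c, .d, .h, .f, .e, .d, .c, .b], 232, [255, 589, 1589, 3382, 3036, 3447, 2632, 1181, 242, 252, 284, 1616, 2308, 3373, 3028, 3365, 3358, 3209, 2724, 2264, 707], [(3, 1743)]),
  ([.f, .e, .d, .h, .i, .c, .d, .h, .e, .d, .c, .b], 195, [1041, 914, 519, 397, 515, 912, 2028, 3378, 2934, 1712, 1989, 2073, 2489, 2074, 1416, 2407, 3465, 2832, 1639, 628, 333], [(3, 3365)]),
  ([.g, .f, .e, .c, .d, .h, .i, .h, .e, .f, .d, .e, .b, .c, .d, .h, .g, .f, .e, .d, .c, .b], 1403, [2053, 3490, 2997, 3063, 2919, 3474, 3109, 1951, 1733, 1526, 3088, 1727, 2130, 2328, 3051, 2991, 2405, 1532, 2420, 2128, 1713], [(2, 1597)]),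
  ([.c, .d, .e, .a, .b, .c, .d, .h, .i, .h, .f, .d, .e, .b, .c, .d, .h, .g, .f, .e, .d, .c, .b], 1605, [3155, 3367, 2157, 1910, 3100, 3018, 2526, 1619, 3162, 2867, 2878, 2918, 2575, 3454, 3207, 2630, 2678, 2684, 2644, 2869, 2774], [(2, 1932)]),
  ([.g, .f, .e, .a, .b, .c, .d, .h, .i, .e, .f, .c, .d, .e, .b, .c, .d, .h, .g, .f, .e, .d, .c, .b], 1720, [2673, 3481, 2240, 2234, 2218, 2753, 2686, 2655, 2591, 3122, 3476, 3081, 3026, 2917, 2900, 3328, 2184, 2468, 2194, 2978, 2373], [(2, 3167)]),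
  ([.i, .h, .e, .f, .d, .e, .c, .d, .h, .g, .f, .e, .d, .c, .b], 353, [372, 703, 1241, 2986, 2950, 2393, 2640, 3428, 2048, 921, 422, 501, 1567, 2578, 2920, 2491, 2492, 3266, 2025, 1080, 961], [(4, 3474)]),
  ([.i, .h, .f, .c, .d, .e, .b, .c, .d, .h, .i, .e, .f, .c, .d, .e, .b, .c, .d, .h, .g, .f, .e, .d, .c, .b], 2166, [2968, 2536, 2422, 2364, 2356, 2983, 2577, 2549, 2697, 2183, 2727, 2916, 3470, 3210, 3178, 3494, 3352, 3071, 2509, 2497, 2801], [(2, 2037)]),
  ([.a, .b, .c, .d, .h, .i, .e, .b, .c, .d, .h, .f, .e, .d, .c, .b], 483, [1196, 571, 940, 1101, 1383, 2830, 2795, 2752, 2322, 2737, 3391, 1840, 1292, 1140, 981, 756, 1162, 1073, 1212, 2135, 1176], [(4, 543)]),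
  ([.d, .e, .c, .d, .h, .i, .e, .b, .c, .d, .h, .g, .f, .e, .d, .c, .b], 566, [596, 1331, 1089, 779, 946, 1012, 1710, 2484, 2760, 1592, 3145, 3501, 2162, 2191, 2721, 2172, 1172, 1305, 1139, 907, 951], [(4, 2134)]),
  ([.g, .f, .e, .d, .h, .i, .c, .d, .h, .g, .f, .e, .d, .c, .a, .b], 411, [536, 459, 978, 749, 1607, 1657, 1486, 2095, 3400, 2357, 3180, 3479, 2647, 3161, 3085, 1473, 1636, 2092, 709, 1124, 742], [(2, 3501)]),
  ([.d, .e, .c, .d, .h, .i, .d, .e, .b, .c, .d, .h, .f, .e, .d, .c, .b], 612, [1043, 1046, 2687, 1533, 1284, 1143, 928, 1167, 1469, 1790, 2377, 3399, 2200, 2088, 1695, 3156, 3086, 1724, 1637, 1399, 1004], [(5, 3106)]),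
  ([.d, .h, .e, .f, .d, .e, .c, .d, .h, .g, .f, .e, .d, .c, .b], 352, [676, 1016, 2058, 2148, 2282, 1214, 759, 699, 1177, 2602, 3410, 2731, 2323, 1112, 1816, 1869, 2661, 2311, 1053, 1675, 795], [(1, 638), (1, 757)]),
  ([.h, .i, .h, .c, .d, .e, .b, .c, .d, .h, .f, .e, .d, .c, .b], 371, [684, 881, 1617, 2318, 2329, 2339, 874, 1750, 2215, 3234, 3463, 2005, 1020, 974, 1077, 1228, 2193, 2156, 1259, 989, 425], [(1, 1394), (1, 654)])]

def C0 : ℕ := 0x0

def C1 : ℕ := 0x400002000000000000000000080000000010000000000000000000000000020000000000000000000000000000004000002020000000000000000040000000000100080000000000000000000000000000000000020040000000000040000000000000000000000000000000000001000600000000000000000000000000000000000000000000000000a00000000008810200000000000000000000000000000000000000000000000000000000000000010080100000000000000100002200001040000000280100000100800000000040004000000000000000000000000000000000000000100200000000040000000001002004000000040400400000000c001000002000000006000000400000100000000000060000000400010010000000000000000800000004400000000001800000000d4000000200400040000000000024000110060100800200042001400000800000000000880000000408028240000102940000050e0040900c0000000001206200000010000000100300200012802401100028801400000090110002040700188d000910400040905101020000b0006820500048204046002080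

def C2 : ℕ := 0x80080450000660000000000200000008a0200000103840000201080000000004000200000000004020800000008000000048400a3020080280000001002040000600003102080000000000010084000000000000020000020040000001000040000000008000000002008004000000400001400600000000040000000000080000020000100008000000004000a0000000000889420000000000002021000000000100800000000002200020000000000000080401c28010000000000006010006221800114120000028030401214080000000015002400000000000000000000010000001002100000090020008000104000a00000109200c800000040400400000000d001080002004804006000000410000d402401400000600002404100100100002000040800108100002044a0000040001c00000000d40000802004110c00000000004240801100e31008002000420034000008240000020048800000126ac43ae40030122940002079e0054980c00030000512862000800100000001003022000128024011c4128801420014190110002040700188d000910400040905101020000b0006820500048204046002080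

def C3 : ℕ := 0x1000000000a0081450808660000040400201000218aa200810107858002381080000000004000200000100004020800000008040000868401a30200802880400010028404006308031020850030020080120850000000000010200a002007000000100004000000000810038000208c1840a1000610201400610000100040000000040480000020000130008184000024000a00401804c0a894200200000000126a100400002010280000100000a202020000020100000080401c2c05b00000000000601020e22180091433000006803040121408200000001d002601000000000080000000010201801002110030290c20028000515800a00009129200dc00000041400480000004d00308000201482d48e100000410000d412401508404628002704100300100002000060800128929002145a0100042801c40000000fc1003882004538c4000008010c240801100e3100800200046003400000866000002004c800000126ac43ee40030122940002079e0054980c00030000512862000800100000001003022000128024011c4128801420014190110002040700188d000910400040905101020000b0006820500048204046002080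

def C4 : ℕ := 0x1200000101a80c1451808660000070400211580a18ab201c1070fa79a02381080000200004000200000100004020800000808042000868481a312588428a850a012b385ae60e32d4390208d08b0024880322851000004000010200a00300700c000100494040000808850038040208c1844a1806790e014006140121000440200041e0480000424000134028184800024000a00401814c0a89620020060000312fa10252181a0542a0000100200a202020000020100000090401e2e15b00000008000609064e33980691433481046993860131408200000001d01e603000000000180000000018a018010221142302d0d3802800051d804a0000b329202dc80000041400480000006d00308000201482d48e100008490001d413401508404628002704100300100002000060800128929002145a0100042801c40000000fc1003882004538c4000008010c240801100e3100800200046003400000866000002004c800000126ac43ee40030122940002079e0054980c00030000512862000800100000001003022000128024011c4128801420014190110002040700188d000910400040905101020000b0006820500048204046002080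

def cs0 : List (List Gen × ℕ × List ℕ × ℕ) := [
  ([.d, .c, .a, .b], 7, [121, 68, 224, 554, 2281, 2560, 1430, 555, 101, 25], 1),
  ([.f, .e, .d, .c, .b], 13, [77, 45, 85, 404, 364, 1218, 1861, 562, 622, 256], 1),
  ([.e, .c, .d, .b, .c, .a, .b], 26, [30, 180, 1395, 2974, 2546, 3045, 3446, 2015, 591, 103], 1),
  ([.c, .d, .h, .e, .d, .c, .b], 38, [174, 643, 926, 1815, 2299, 1054, 1322, 349, 128, 158], 1),
  ([.i, .h, .f, .e, .d, .c, .a, .b], 51, [70, 54, 317, 825, 1824, 1921, 1925, 1058, 477, 136], 1),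
  ([.i, .c, .d, .h, .f, .e, .d, .c, .b], 83, [683, 560, 971, 735, 760, 465, 523, 361, 184, 203], 1),
  ([.i, .b, .c, .d, .h, .e, .d, .c, .b], 86, [100, 311, 600, 1894, 2928, 1944, 2758, 2915, 1450, 298], 2),
  ([.i, .e, .c, .d, .h, .g, .f, .e, .d, .c, .b], 140, [187, 522, 142, 260, 631, 1380, 2769, 1546, 1294, 532], 1),
  ([.i, .d, .e, .c, .d, .h, .f, .e, .d, .c, .b], 148, [346, 816, 593, 1321, 586, 202, 300, 1008, 910, 966], 1),
  ([.d, .h, .i, .e, .d, .h, .f, .e, .d, .c, .b], 151, [200, 225, 758, 633, 650, 970, 480, 687, 469, 315], 1),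
  ([.i, .h, .d, .e, .c, .d, .h, .f, .e, .d, .c, .a, .b], 207, [226, 840, 1357, 1504, 2004, 2341, 1774, 1758, 1168, 470], 1),
  ([.c, .d, .h, .i, .e, .d, .h, .f, .e, .d, .c, .a, .b], 211, [807, 1268, 2710, 3347, 1900, 1091, 332, 359, 336, 436], 1),
  ([.f, .e, .d, .h, .i, .c, .d, .h, .e, .d, .c, .a, .b], 212, [826, 1442, 2295, 3201, 2288, 1217, 1848, 858, 937, 381], 1),
  ([.d, .h, .i, .e, .b, .c, .d, .h, .f, .e, .d, .c, .b], 234, [535, 588, 1596, 2343, 3308, 1859, 836, 773, 861, 542], 1),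
  ([.f, .e, .d, .h, .i, .c, .d, .h, .f, .e, .d, .c, .b], 241, [392, 393, 1394, 3053, 2545, 3078, 3425, 2024, 1482, 968], 2),
  ([.i, .c, .d, .e, .b, .c, .d, .h, .g, .f, .e, .d, .c, .b], 268, [553, 1156, 625, 1007, 271, 793, 1493, 1585, 1186, 778], 1)]

def cs1 : List (List Gen × ℕ × List ℕ × ℕ) := [
  ([.i, .h, .d, .e, .b, .c, .d, .h, .g, .f, .e, .d, .c, .b], 272, [320, 1479, 1257, 1888, 1629, 2623, 1761, 1849, 1180, 484], 1),
  ([.h, .e, .f, .d, .e, .c, .d, .h, .g, .f, .e, .d, .c, .b], 278, [293, 556, 1197, 1915, 2633, 3059, 2864, 1531, 1499, 642], 1),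
  ([.i, .h, .f, .d, .e, .c, .d, .h, .g, .f, .e, .d, .c, .b], 280, [690, 1343, 726, 1118, 2850, 3299, 2034, 1049, 627, 326], 1),
  ([.b, .c, .d, .h, .i, .e, .c, .d, .h, .f, .e, .d, .c, .a, .b], 330, [626, 1051, 2981, 3294, 2506, 2433, 2221, 3471, 2117, 1084], 1),
  ([.e, .c, .d, .h, .i, .e, .c, .d, .h, .f, .e, .d, .c, .a, .b], 331, [505, 645, 1096, 1254, 1885, 1624, 2101, 3111, 1552, 1111], 1),
  ([.e, .c, .d, .h, .i, .d, .e, .c, .d, .h, .f, .e, .d, .c, .b], 385, [701, 1571, 3057, 3075, 3035, 3301, 3450, 2121, 1496, 647], 3),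
  ([.i, .d, .h, .e, .f, .d, .e, .c, .d, .h, .g, .f, .e, .d, .c, .b], 451, [827, 1668, 3333, 2216, 3300, 3025, 3023, 1822, 851, 821], 2),
  ([.d, .h, .i, .h, .c, .d, .e, .b, .c, .d, .h, .f, .e, .d, .c, .b], 475, [559, 1026, 2358, 2953, 3444, 2395, 3218, 2671, 1346, 540], 2),
  ([.f, .e, .c, .d, .h, .i, .e, .b, .c, .d, .h, .f, .e, .d, .c, .b], 486, [1194, 916, 820, 1288, 1842, 3426, 2793, 3343, 2954, 1772], 1),
  ([.e, .c, .d, .h, .i, .f, .e, .d, .h, .g, .f, .e, .d, .b, .c, .a, .b], 504, [531, 1242, 1244, 2992, 2921, 2412, 3264, 2043, 920, 638], 2),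
  ([.g, .f, .e, .c, .d, .h, .i, .e, .c, .d, .h, .f, .e, .d, .c, .a, .b], 538, [597, 1599, 2291, 3377, 3341, 3459, 2728, 2167, 1266, 632], 2),
  ([.b, .c, .d, .h, .i, .f, .e, .b, .c, .d, .h, .g, .f, .e, .d, .c, .b], 561, [1829, 2558, 2582, 3273, 1776, 1483, 1334, 729, 761, 1137], 1),
  ([.f, .d, .e, .c, .d, .h, .i, .b, .c, .d, .h, .g, .f, .e, .d, .c, .b], 569, [1375, 2459, 3259, 3149, 2286, 2176, 2610, 1392, 947, 866], 2),
  ([.e, .c, .d, .h, .i, .h, .d, .e, .b, .c, .d, .h, .f, .e, .d, .c, .b], 608, [1006, 1065, 2023, 3422, 1930, 1953, 1896, 2932, 2855, 1271], 1),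
  ([.f, .e, .d, .h, .i, .h, .d, .e, .b, .c, .d, .h, .f, .e, .d, .c, .b], 609, [653, 911, 2017, 3158, 1916, 2229, 1529, 3070, 2933, 1270], 1),
  ([.f, .e, .b, .c, .d, .h, .i, .d, .e, .c, .d, .h, .f, .e, .d, .c, .b], 629, [649, 656, 2022, 3421, 1954, 1929, 1832, 3052, 3143, 1640], 1)]

def cs2 : List (List Gen × ℕ × List ℕ × ℕ) := [
  ([.f, .d, .e, .c, .d, .h, .i, .d, .e, .c, .d, .h, .f, .e, .d, .c, .b], 630, [686, 1040, 3060, 2601, 1903, 2109, 3439, 2001, 1079, 969], 2),
  ([.b, .c, .d, .h, .i, .e, .f, .d, .e, .c, .d, .h, .g, .f, .e, .d, .c, .b], 725, [1332, 1117, 2014, 2615, 2144, 2540, 3339, 2948, 2077, 922], 2),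
  ([.f, .e, .d, .h, .i, .h, .f, .d, .e, .c, .d, .h, .g, .f, .e, .d, .c, .b], 730, [774, 1240, 883, 2943, 2627, 2896, 2520, 872, 1398, 1335], 1),
  ([.f, .e, .b, .c, .d, .h, .i, .d, .e, .b, .c, .d, .h, .g, .f, .e, .d, .c, .b], 867, [1590, 2622, 2897, 3452, 2382, 2470, 2310, 1573, 949, 1230], 1),
  ([.h, .d, .e, .c, .d, .h, .i, .f, .d, .e, .c, .d, .h, .g, .f, .e, .d, .c, .b], 906, [1862, 3271, 1931, 2307, 1211, 3302, 2910, 1652, 1501, 960], 1),
  ([.c, .d, .e, .b, .c, .d, .h, .i, .d, .e, .c, .d, .h, .g, .f, .e, .d, .c, .b], 915, [1193, 2226, 2875, 2409, 2462, 3277, 1707, 1661, 1427, 1323], 3),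
  ([.g, .f, .e, .b, .c, .d, .h, .i, .d, .e, .c, .d, .h, .g, .f, .e, .d, .c, .b], 917, [1337, 1076, 1609, 2651, 3291, 3348, 2387, 1381, 948, 1192], 1),
  ([.f, .e, .b, .c, .d, .h, .i, .h, .d, .e, .b, .c, .d, .h, .f, .e, .d, .c, .b], 943, [1052, 1235, 2000, 2223, 2966, 3431, 2123, 2908, 2756, 1444], 1),
  ([.d, .e, .c, .d, .h, .i, .h, .f, .d, .e, .c, .d, .h, .g, .f, .e, .d, .c, .a, .b], 967, [1480, 1620, 3102, 1775, 3077, 2885, 3292, 2596, 1544, 1508], 1),
  ([.d, .e, .c, .d, .h, .i, .f, .c, .d, .e, .b, .c, .d, .h, .g, .f, .e, .d, .c, .b], 1002, [1478, 1330, 1081, 2003, 2319, 1608, 3390, 3010, 2576, 2388], 1),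
  ([.e, .c, .d, .h, .i, .h, .e, .f, .d, .e, .b, .c, .d, .h, .g, .f, .e, .d, .c, .b], 1019, [1021, 2361, 3469, 2848, 2783, 1591, 3176, 3398, 2979, 2006], 1),
  ([.g, .f, .d, .e, .c, .d, .h, .i, .f, .e, .b, .c, .d, .h, .g, .f, .e, .d, .c, .b], 1060, [1554, 1511, 2297, 3323, 2269, 2800, 2652, 2185, 1889, 1651], 1),
  ([.f, .d, .e, .c, .d, .h, .i, .h, .f, .d, .e, .c, .d, .h, .g, .f, .e, .d, .c, .b], 1087, [1260, 1348, 2861, 2757, 2569, 2581, 3272, 1601, 1093, 1327], 3),
  ([.f, .e, .d, .h, .i, .h, .e, .f, .c, .d, .e, .b, .c, .d, .h, .g, .f, .e, .d, .c, .b], 1169, [1543, 2206, 3083, 3368, 2169, 2232, 2320, 3353, 3316, 1757], 1),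
  ([.g, .f, .e, .c, .d, .h, .i, .e, .f, .d, .e, .b, .c, .d, .h, .g, .f, .e, .d, .c, .b], 1213, [2306, 2949, 2603, 2781, 2664, 2330, 2653, 3019, 1748, 1548], 1),
  ([.c, .d, .e, .b, .c, .d, .h, .i, .f, .d, .e, .b, .c, .d, .h, .g, .f, .e, .d, .c, .b], 1222, [2616, 2225, 1884, 3337, 3508, 2408, 2068, 1316, 1937, 1809], 1)]

def cs3 : List (List Gen × ℕ × List ℕ × ℕ) := [
  ([.f, .c, .d, .e, .b, .c, .d, .h, .i, .f, .e, .b, .c, .d, .h, .g, .f, .e, .d, .c, .b], 1256, [1971, 2471, 2962, 2478, 2938, 2857, 3097, 3017, 2987, 2580], 2),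
  ([.d, .h, .e, .f, .d, .e, .c, .d, .h, .i, .e, .b, .c, .d, .h, .g, .f, .e, .d, .c, .b], 1272, [2227, 2174, 3303, 2204, 3119, 3293, 1855, 1663, 1397, 1613], 1),
  ([.c, .d, .e, .b, .c, .d, .h, .i, .h, .f, .d, .e, .c, .d, .h, .g, .f, .e, .d, .c, .b], 1291, [1872, 2209, 1749, 1856, 1505, 2008, 2258, 1547, 1763, 1841], 1),
  ([.c, .d, .e, .a, .b, .c, .d, .h, .i, .f, .d, .e, .c, .d, .h, .g, .f, .e, .d, .c, .b], 1299, [2312, 3324, 3285, 1847, 1762, 2187, 3030, 3366, 2967, 2021], 1),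
  ([.b, .c, .d, .h, .e, .f, .d, .e, .c, .d, .h, .i, .b, .c, .d, .h, .g, .f, .e, .d, .c, .b], 1475, [1667, 2013, 3309, 3505, 2586, 1938, 2178, 1534, 1764, 2188], 1),
  ([.f, .c, .d, .e, .b, .c, .d, .h, .i, .e, .f, .d, .e, .c, .d, .h, .g, .f, .e, .d, .c, .b], 1485, [1633, 2257, 2642, 3467, 2747, 2196, 1905, 2865, 2965, 2502], 1),
  ([.d, .e, .f, .c, .d, .e, .b, .c, .d, .h, .i, .d, .e, .c, .d, .h, .g, .f, .e, .d, .c, .b], 1509, [2237, 2469, 3322, 1906, 1919, 2236, 3396, 2985, 2595, 2285], 1),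
  ([.c, .d, .e, .b, .c, .d, .h, .i, .h, .e, .f, .d, .e, .b, .c, .d, .h, .g, .f, .e, .d, .c, .b], 1583, [1866, 1618, 1879, 2040, 2538, 1934, 1598, 1852, 1584, 1828], 1),
  ([.g, .f, .d, .e, .c, .d, .h, .i, .h, .e, .f, .d, .e, .b, .c, .d, .h, .g, .f, .e, .d, .c, .b], 1588, [3355, 2955, 2525, 2715, 2195, 3440, 2438, 1947, 1708, 1920], 1),
  ([.c, .d, .h, .e, .f, .d, .e, .a, .b, .c, .d, .h, .i, .e, .b, .c, .d, .h, .g, .f, .e, .d, .c, .b], 1882, [2911, 1924, 2768, 2683, 2606, 3237, 3480, 2969, 2397, 2945], 1),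
  ([.d, .h, .c, .d, .e, .b, .c, .d, .h, .i, .d, .e, .f, .c, .d, .e, .b, .c, .d, .h, .g, .f, .e, .d, .c, .b], 2133, [2718, 2570, 2430, 2379, 2224, 2879, 2972, 3008, 2899, 2406], 1),
  ([.d, .h, .f, .c, .d, .e, .b, .c, .d, .h, .i, .e, .f, .c, .d, .e, .b, .c, .d, .h, .g, .f, .e, .d, .c, .b], 2165, [3364, 3310, 2961, 3458, 3363, 2984, 3003, 3372, 3039, 2585], 1),
  ([.h, .f, .b, .c, .d, .e, .a, .b, .c, .d, .h, .i, .f, .c, .d, .e, .b, .c, .d, .h, .g, .f, .e, .d, .c, .b], 2201, [2472, 3336, 2980, 2571, 2493, 3288, 3040, 2989, 3472, 2746], 2),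
  ([.i, .d, .h, .e, .f, .d, .e, .a, .b, .c, .d, .h, .i, .e, .f, .d, .e, .b, .c, .d, .h, .g, .f, .e, .d, .c, .b], 2528, [2822, 2666, 2702, 3067, 2882, 2931, 2942, 2844, 3297, 2903], 2),
  ([.f, .e, .d, .h, .g, .f, .c, .d, .e, .b, .c, .d, .h, .i, .f, .d, .e, .b, .c, .d, .h, .g, .f, .e, .d, .c, .b], 2579, [3048, 3042, 3015, 2712, 3397, 3287, 2940, 2675, 3001, 2971], 1)]

/-- the points of the generators: word, point, path from `bp`, end of the path, exponent -/
def gt : Gen → List Gen × ℕ × List (ℕ × ℕ) × ℕ × ℕ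
  | .a => ([], 0, [(3, 49), (4, 462), (1, 1516), (4, 888)], 888, 5)
  | .b => ([.a, .b], 2, [(2, 7), (5, 1638), (1, 3009), (2, 388), (2, 19), (1, 34), (2, 2)], 2, 0)
  | .c => ([.b, .c, .a, .b], 6, [(2, 7), (5, 1638), (1, 3009), (2, 388), (2, 19), (1, 34)], 34, 2)
  | .d => ([.c, .d, .b, .c, .a, .b], 16, [], 4, 2)
  | .e => ([.d, .e, .c, .d, .b, .c, .a, .b], 40, [(6, 180), (7, 443)], 443, 2)
  | .f => ([.e, .f, .d, .e, .c, .d, .b, .c, .a, .b], 88, [(8, 3351), (4, 2246)], 2246, 7)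
  | .g => ([.f, .g, .e, .f, .d, .e, .c, .d, .b, .c, .a, .b], 154, [(8, 3351), (4, 2246)], 2246, 6)
  | .h => ([.d, .h, .c, .d, .b, .c, .a, .b], 43, [(2, 7), (5, 1638), (1, 3009), (2, 388), (2, 19), (1, 34)], 34, 1)
  | .i => ([.h, .i, .d, .h, .c, .d, .b, .c, .a, .b], 92, [], 4, 1)

/-- a path with a given end -/
noncomputable def pathE (w : List Gen) (T : ℕ) (l : List (ℕ × ℕ)) : ℕ → Bool :=
  List.rec (motive := fun _ => ℕ → Bool) (fun p => Nat.beq p T)
    (fun e _ ih p => and (Nat.beq (ptWord (nw (refW w e.1)) p) e.2) (ih e.2)) l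

/-- the check for a generator -/
noncomputable def genB (x : Gen) : Bool :=
  and (eqB [x] (refW (gt x).1 0)) (and (Nat.beq (ptWord (nw (gt x).1) 0) (gt x).2.1)
    (and (pathE bw (gt x).2.2.2.1 (gt x).2.2.1 bp)
      (Nat.beq (ptWord (nw (rep (gt x).2.2.2.2 sw)) (gt x).2.2.2.1) (gt x).2.1)))

theorem chk_z : eqB (rep 11 sw) (refW zw 0) = true := by decide +kernel
theorem chk_p0 : Nat.beq (ptWord (nw zw) 0) p0 = true := by decide +kernel
theorem chk_bw : Nat.beq (ptWord (nw bw) 0) bp = true := by decide +kernel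
theorem chk_bl : chainB bl bp = true := by decide +kernel
theorem chk_bm : Nat.beq (maskL (bp :: bl) 0) M0 = true := by decide +kernel
theorem chk_ga : genB .a = true := by decide +kernel
theorem chk_gb : genB .b = true := by decide +kernel
theorem chk_gc : genB .c = true := by decide +kernel
theorem chk_gd : genB .d = true := by decide +kernel
theorem chk_ge : genB .e = true := by decide +kernel
theorem chk_gf : genB .f = true := by decide +kernel
theorem chk_gg : genB .g = true := by decide +kernel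
theorem chk_gh : genB .h = true := by decide +kernel
theorem chk_gi : genB .i = true := by decide +kernel
theorem chk_e0 : runB es0 M0 M1 = true := by decide +kernel
theorem chk_e1 : runB es1 M1 M2 = true := by decide +kernel
theorem chk_e2 : runB es2 M2 M3 = true := by decide +kernel
theorem chk_e3 : runB es3 M3 M4 = true := by decide +kernel
theorem chk_e4 : runB es4 M4 M5 = true := by decide +kernel
theorem chk_e5 : runB es5 M5 M6 = true := by decide +kernel
theorem chk_e6 : runB es6 M6 M7 = true := by decide +kernel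
theorem chk_e7 : runB es7 M7 M8 = true := by decide +kernel
theorem chk_c0 : runC cs0 C0 C1 = true := by decide +kernel
theorem chk_c1 : runC cs1 C1 C2 = true := by decide +kernel
theorem chk_c2 : runC cs2 C2 C3 = true := by decide +kernel
theorem chk_c3 : runC cs3 C3 C4 = true := by decide +kernel
theorem chk_all : Nat.beq (Nat.lor M8 (Nat.lor C4 (Nat.shiftLeft 1 p0))) (Nat.sub (Nat.pow 2 3510) 1) = true := by decide +kernel

/-! ### The argument -/

section

variable {G : Type*} [Group G] {D : Set G} (m : Model G D)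

theorem testBit_maskL (l : List ℕ) (M p : ℕ) : tb (maskL l M) p = true ↔ p ∈ l ∨ tb M p = true := by
  induction l generalizing M with
  | nil =>
    show tb M p = true ↔ _
    simp
  | cons q l ih =>
    show tb (seq (Nat.lor M (Nat.shiftLeft 1 q)) (maskL l)) p = true ↔ _
    rw [seq_eq, ih, tb_eq, tb_eq]
    have h1 : (Nat.lor M (Nat.shiftLeft 1 q)).testBit p = (M.testBit p || (1 <<< q).testBit p) := Nat.testBit_or M (1 <<< q) p
    have h2 : (1 <<< q).testBit p = decide (q = p) := by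
      rw [Nat.one_shiftLeft]; exact Nat.testBit_two_pow
    rw [h1, h2, Bool.or_eq_true, decide_eq_true_eq, List.mem_cons]
    constructor
    · rintro (h | h | rfl)
      · exact Or.inl (Or.inr h)
      · exact Or.inr h
      · exact Or.inl (Or.inl rfl)
    · rintro ((rfl | h) | h)
      · exact Or.inr (Or.inr rfl)
      · exact Or.inl h
      · exact Or.inr (Or.inl h)

/-- the transposition with the point `w 0` -/
theorem wd_refW {w : List Gen} {p : ℕ} (h : m.φ (m.wd w) 0 = p) (k : ℕ) :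
    m.wd (refW w k) = m.t p * m.wd sw ^ k := by
  rw [refW, m.wd_append, m.wd_cons, m.wd_append, m.wd_reverse, m.wd_rep, m.t_eq h, Model.a]
  group

theorem chain_spec {P : ℕ → Prop} (hP : ∀ p, P p → P (m.φ (m.wd sw) p)) {l : List ℕ} {p : ℕ}
    (hc : chainB l p = true) (hp : P p) : ∀ q ∈ p :: l, P q := by
  induction l generalizing p with
  | nil =>
    intro q hq
    rw [List.mem_singleton] at hq
    rw [hq]; exact hp
  | cons r l ih =>
    have h' : and (Nat.beq (ptWord (nw sw) p) r) (chainB l r) = true := hc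
    rw [Bool.and_eq_true, Nat.beq_eq, ← m.φ_wd_apply] at h'
    intro q hq
    rcases List.mem_cons.1 hq with rfl | hq
    · exact hp
    · exact ih h'.2 (h'.1 ▸ hP p hp) q hq

variable {K : Subgroup G} (hs : m.wd sw ∈ K)

include hs in
theorem path_spec {w : List Gen} {r : ℕ} (hw : m.φ (m.wd w) 0 = r) (hr : m.t r ∈ K) {l : List (ℕ × ℕ)} :
    ∀ {p : ℕ}, p < 3510 → m.t p ∈ K → ∀ {M : ℕ}, pathB w M l p = true → ∃ q < 3510, m.t q ∈ K ∧ tb M q = true := by
  induction l with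
  | nil =>
    intro p hp hK M h
    exact ⟨p, hp, hK, h⟩
  | cons e l ih =>
    intro p hp hK M h
    have h' : and (Nat.beq (ptWord (nw (refW w e.1)) p) e.2) (pathB w M l e.2) = true := h
    rw [Bool.and_eq_true, Nat.beq_eq, ← m.φ_wd_apply] at h'
    have hg : m.wd (refW w e.1) ∈ K := by
      rw [wd_refW m hw]
      exact K.mul_mem hr (K.pow_mem hs _)
    refine ih (p := e.2) ?_ ?_ h'.2
    · rw [← h'.1]; exact m.φ_lt _ hp
    · rw [← h'.1, ← m.conj_t _ hp]
      exact K.mul_mem (K.mul_mem hg hK) (K.inv_mem hg)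

include hs in
theorem pathE_spec {w : List Gen} {r : ℕ} (hw : m.φ (m.wd w) 0 = r) (hr : m.t r ∈ K) {l : List (ℕ × ℕ)} :
    ∀ {p : ℕ}, p < 3510 → m.t p ∈ K → ∀ {T : ℕ}, pathE w T l p = true → T < 3510 ∧ m.t T ∈ K := by
  induction l with
  | nil =>
    intro p hp hK T h
    have h' : Nat.beq p T = true := h
    rw [Nat.beq_eq] at h'
    rw [← h']
    exact ⟨hp, hK⟩
  | cons e l ih =>
    intro p hp hK T h
    have h' : and (Nat.beq (ptWord (nw (refW w e.1)) p) e.2) (pathE w T l e.2) = true := h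
    rw [Bool.and_eq_true, Nat.beq_eq, ← m.φ_wd_apply] at h'
    have hg : m.wd (refW w e.1) ∈ K := by
      rw [wd_refW m hw]
      exact K.mul_mem hr (K.pow_mem hs _)
    refine ih (p := e.2) ?_ ?_ h'.2
    · rw [← h'.1]; exact m.φ_lt _ hp
    · rw [← h'.1, ← m.conj_t _ hp]
      exact K.mul_mem (K.mul_mem hg hK) (K.inv_mem hg)

/-- a subgroup containing the generators -/
theorem top_of_gens (h : ∀ x : Gen, m.wd [x] ∈ K) : K = ⊤ := by
  rw [eq_top_iff]
  intro g _
  have h1 : Subgroup.closure (Set.range gen) ≤ K.comap m.e.toMonoidHom := by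
    rw [Subgroup.closure_le]
    rintro _ ⟨x, rfl⟩
    show m.e (gen x) ∈ K
    rw [← m.wd_single]
    exact h x
  have h2 : m.e.symm g ∈ K.comap m.e.toMonoidHom := h1 (by rw [closure_gen]; trivial)
  have h3 : m.e (m.e.symm g) ∈ K := h2
  rwa [MulEquiv.apply_symm_apply] at h3

theorem chk_gen (x : Gen) : genB x = true := by
  cases x
  · exact chk_ga
  · exact chk_gb
  · exact chk_gc
  · exact chk_gd
  · exact chk_ge
  · exact chk_gf
  · exact chk_gg
  · exact chk_gh
  · exact chk_gi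

include hs in
theorem base_good (hb : m.t bp ∈ K) : K = ⊤ := by
  have hbw : m.φ (m.wd bw) 0 = bp := by
    rw [m.φ_wd_apply]; exact Nat.eq_of_beq_eq_true chk_bw
  have hlt : bp < 3510 := by rw [← hbw]; exact m.φ_lt _ (by norm_num)
  refine top_of_gens m fun x => ?_
  have h := chk_gen x
  unfold genB at h
  rw [Bool.and_eq_true, Bool.and_eq_true, Bool.and_eq_true, Nat.beq_eq, Nat.beq_eq, ← m.φ_wd_apply, ← m.φ_wd_apply] at h
  obtain ⟨h1, h2, h3, h4⟩ := h
  obtain ⟨h5, h6⟩ := pathE_spec m hs hbw hb hlt hb h3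
  rw [m.eq_of_eqB h1, wd_refW m h2, pow_zero, mul_one, ← h4, ← m.conj_t _ h5, m.wd_rep]
  exact K.mul_mem (K.mul_mem (K.pow_mem hs _) h6) (K.inv_mem (K.pow_mem hs _))

/-- the transposition of `p` together with `s` generates the group -/
def Good (K : Subgroup G) (p : ℕ) : Prop := p < 3510 ∧ (m.t p ∈ K → K = ⊤)

include hs in
theorem good_shift (p : ℕ) (h : Good m K p) : Good m K (m.φ (m.wd sw) p) := by
  refine ⟨m.φ_lt _ h.1, fun h1 => h.2 ?_⟩
  rw [← m.conj_t _ h.1] at h1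
  have h2 := K.mul_mem (K.mul_mem (K.inv_mem hs) h1) hs
  have h3 : (m.wd sw)⁻¹ * (m.wd sw * m.t p * (m.wd sw)⁻¹) * m.wd sw = m.t p := by group
  rwa [h3] at h2

include hs in
theorem run_spec {es : List Ent} : ∀ {M T : ℕ}, runB es M T = true → (∀ p, tb M p = true → Good m K p) →
    ∀ p, tb T p = true → Good m K p := by
  induction es with
  | nil =>
    intro M T h hM
    have h' : Nat.beq M T = true := h
    rw [Nat.beq_eq] at h'
    rwa [h'] at hM
  | cons e es ih =>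
    intro M T h hM
    have h' : and (Nat.beq (ptWord (nw e.1) 0) e.2.1) (and (pathB e.1 M e.2.2.2 e.2.1)
      (and (chainB e.2.2.1 e.2.1) (seqB (maskL (e.2.1 :: e.2.2.1) M) fun M' => runB es M' T))) = true := h
    rw [seqB_eq, Bool.and_eq_true, Bool.and_eq_true, Bool.and_eq_true, Nat.beq_eq, ← m.φ_wd_apply] at h'
    obtain ⟨h1, h2, h3, h4⟩ := h'
    refine ih h4 fun p hp => ?_
    rw [testBit_maskL] at hp
    rcases hp with hp | hp
    · have hlt : e.2.1 < 3510 := by rw [← h1]; exact m.φ_lt _ (by norm_num)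
      refine chain_spec m (good_shift m hs) h3 ⟨hlt, fun hK => ?_⟩ p hp
      obtain ⟨q, -, hqK, hq⟩ := path_spec m hs h1 hK hlt hK h2
      exact (hM q hq).2 hqK
    · exact hM p hp

include hs in
theorem good_all (p : ℕ) (hp : tb M8 p = true) : Good m K p := by
  have hbw : m.φ (m.wd bw) 0 = bp := by
    rw [m.φ_wd_apply]; exact Nat.eq_of_beq_eq_true chk_bw
  have hlt : bp < 3510 := by rw [← hbw]; exact m.φ_lt _ (by norm_num)
  have h0 : ∀ p, tb M0 p = true → Good m K p := by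
    intro p hp
    rw [← Nat.eq_of_beq_eq_true chk_bm, testBit_maskL] at hp
    rcases hp with hp | hp
    · exact chain_spec m (good_shift m hs) chk_bl ⟨hlt, base_good m hs⟩ p hp
    · rw [tb_eq] at hp
      simp at hp
  exact run_spec m hs chk_e7 (run_spec m hs chk_e6 (run_spec m hs chk_e5 (run_spec m hs chk_e4 (run_spec m hs chk_e3
    (run_spec m hs chk_e2 (run_spec m hs chk_e1 (run_spec m hs chk_e0 h0))))))) p hp

/-- the transposition `s ^ 11` -/
theorem z_eq : m.t p0 = m.wd sw ^ 11 := by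
  have h1 : m.φ (m.wd zw) 0 = p0 := by
    rw [m.φ_wd_apply]; exact Nat.eq_of_beq_eq_true chk_p0
  have h2 := m.eq_of_eqB chk_z
  rw [wd_refW m h1, pow_zero, mul_one, m.wd_rep] at h2
  exact h2.symm

/-- `p` is fixed by `z` and its orbit under `s` contains a point `q` not fixed by `t p` -/
def Com (p : ℕ) : Prop := p < 3510 ∧ m.φ (m.t p0) p = p ∧
  ∃ k : ℕ, m.φ (m.t p) (m.φ (m.wd sw ^ k) p) ≠ m.φ (m.wd sw ^ k) p

theorem com_shift (p : ℕ) (h : Com m p) : Com m (m.φ (m.wd sw) p) := by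
  obtain ⟨h1, h2, k, h3⟩ := h
  refine ⟨m.φ_lt _ h1, ?_, k, ?_⟩
  · rw [z_eq] at h2 ⊢
    rw [← Equiv.Perm.mul_apply, ← map_mul, ← pow_succ, pow_succ', map_mul, Equiv.Perm.mul_apply, h2]
  · intro h4
    apply h3
    rw [← m.conj_t _ h1] at h4
    have h4 : m.φ (m.wd sw * m.t p * (m.wd sw)⁻¹ * (m.wd sw ^ k * m.wd sw)) p = m.φ (m.wd sw ^ k * m.wd sw) p := by
      rw [map_mul, map_mul _ (m.wd sw ^ k), Equiv.Perm.mul_apply, Equiv.Perm.mul_apply]
      exact h4
    have e1 : m.wd sw * m.t p * (m.wd sw)⁻¹ * (m.wd sw ^ k * m.wd sw) = m.wd sw * (m.t p * m.wd sw ^ k) := by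
      rw [← pow_succ, pow_succ']; group
    have e2 : m.wd sw ^ k * m.wd sw = m.wd sw * m.wd sw ^ k := by rw [← pow_succ, pow_succ']
    rw [e1, e2] at h4
    have h5 : m.φ (m.wd sw) (m.φ (m.t p) (m.φ (m.wd sw ^ k) p)) = m.φ (m.wd sw) (m.φ (m.wd sw ^ k) p) := by
      rw [map_mul, map_mul, map_mul _ (m.wd sw) (m.wd sw ^ k)] at h4
      exact h4
    exact (m.φ (m.wd sw)).injective h5

theorem runC_spec {es : List (List Gen × ℕ × List ℕ × ℕ)} : ∀ {M T : ℕ}, runC es M T = true →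
    (∀ p, tb M p = true → Com m p) → ∀ p, tb T p = true → Com m p := by
  have hz : m.φ (m.wd zw) 0 = p0 := by
    rw [m.φ_wd_apply]; exact Nat.eq_of_beq_eq_true chk_p0
  induction es with
  | nil =>
    intro M T h hM
    have h' : Nat.beq M T = true := h
    rw [Nat.beq_eq] at h'
    rwa [h'] at hM
  | cons e es ih =>
    intro M T h hM
    have h' : and (Nat.beq (ptWord (nw e.1) 0) e.2.1)
      (and (Nat.beq (ptWord (nw (refW zw 0)) e.2.1) e.2.1)
      (and (seqB (ptWord (nw (rep e.2.2.2 sw)) e.2.1) fun q => !(Nat.beq (ptWord (nw (refW e.1 0)) q) q))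
      (and (chainB e.2.2.1 e.2.1) (seqB (maskL (e.2.1 :: e.2.2.1) M) fun M' => runC es M' T)))) = true := h
    rw [seqB_eq, seqB_eq, Bool.and_eq_true, Bool.and_eq_true, Bool.and_eq_true, Bool.and_eq_true, Nat.beq_eq, Nat.beq_eq,
      Bool.not_eq_true', ← Bool.not_eq_true, Nat.beq_eq, ← m.φ_wd_apply, ← m.φ_wd_apply, ← m.φ_wd_apply,
      ← m.φ_wd_apply] at h'
    obtain ⟨h1, h2, h3, h4, h5⟩ := h'
    rw [wd_refW m hz, pow_zero, mul_one] at h2
    rw [wd_refW m h1, pow_zero, mul_one, m.wd_rep] at h3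
    refine ih h5 fun p hp => ?_
    rw [testBit_maskL] at hp
    rcases hp with hp | hp
    · have hlt : e.2.1 < 3510 := by rw [← h1]; exact m.φ_lt _ (by norm_num)
      exact chain_spec m (com_shift m) h4 ⟨hlt, h2, _, h3⟩ p hp
    · exact hM p hp

theorem com_all (p : ℕ) (hp : tb C4 p = true) : Com m p := by
  have h0 : ∀ p, tb C0 p = true → Com m p := by
    intro p hp
    rw [tb_eq] at hp
    simp [C0] at hp
  exact runC_spec m chk_c3 (runC_spec m chk_c2 (runC_spec m chk_c1 (runC_spec m chk_c0 h0))) p hp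

theorem cover (p : ℕ) (hp : p < 3510) : tb M8 p = true ∨ tb C4 p = true ∨ p = p0 := by
  have h1 := Nat.eq_of_beq_eq_true chk_all
  have h2 : (2 ^ 3510 - 1).testBit p = true := by
    rw [Nat.testBit_two_pow_sub_one]; exact decide_eq_true hp
  have h3 : (M8 ||| (C4 ||| (1 <<< p0))).testBit p = true := by
    have : M8 ||| (C4 ||| (1 <<< p0)) = 2 ^ 3510 - 1 := h1
    rw [this]; exact h2
  rw [Nat.testBit_or, Nat.testBit_or, Bool.or_eq_true, Bool.or_eq_true] at h3
  rcases h3 with h3 | h3 | h3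
  · left; rw [tb_eq]; exact h3
  · right; left; rw [tb_eq]; exact h3
  · right; right
    rw [Nat.one_shiftLeft, Nat.testBit_two_pow, decide_eq_true_eq] at h3
    exact h3.symm

theorem p0_lt : p0 < 3510 := by decide

include hs in
/-- **The only maximal subgroup containing `s` is the centralizer of `z`.** -/
theorem le_cent (hK : K ≠ ⊤) : K ≤ Subgroup.centralizer ({m.t p0} : Set G) := by
  have hp0 := p0_lt
  have hz : m.t p0 ∈ K := by rw [z_eq]; exact K.pow_mem hs _
  -- transpositions of `K` commute with `z`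
  have key : ∀ g ∈ K, m.φ (m.t p0) (m.φ g p0) = m.φ g p0 := by
    intro g hg
    have ht : m.t (m.φ g p0) ∈ K := by
      rw [← m.conj_t _ hp0]; exact K.mul_mem (K.mul_mem hg hz) (K.inv_mem hg)
    rcases cover (m.φ g p0) (m.φ_lt _ hp0) with h | h | h
    · exact absurd ((good_all m hs _ h).2 ht) hK
    · exact (com_all m _ h).2.1
    · rw [h]
      exact (m.comm_iff (m.t p0) hp0).1 rfl
  intro g hg
  rw [Subgroup.mem_centralizer_singleton_iff, m.comm_iff _ hp0]
  rcases cover (m.φ g p0) (m.φ_lt _ hp0) with h | h | h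
  · exfalso
    apply hK
    apply (good_all m hs _ h).2
    rw [← m.conj_t _ hp0]; exact K.mul_mem (K.mul_mem hg hz) (K.inv_mem hg)
  · exfalso
    obtain ⟨-, -, k, h3⟩ := com_all m _ h
    apply h3
    rw [← m.conj_t _ hp0]
    have h4 := key (g⁻¹ * m.wd sw ^ k * g) (K.mul_mem (K.mul_mem (K.inv_mem hg) (K.pow_mem hs _)) hg)
    have h5 := congrArg (m.φ g) h4
    rw [← Equiv.Perm.mul_apply, ← Equiv.Perm.mul_apply, ← Equiv.Perm.mul_apply, ← map_mul, ← map_mul, ← map_mul] at h5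
    show (m.φ (g * m.t p0 * g⁻¹) * (m.φ (m.wd sw ^ k) * m.φ g)) p0 = (m.φ (m.wd sw ^ k) * m.φ g) p0
    rw [← map_mul, ← map_mul]
    have e1 : g * m.t p0 * g⁻¹ * (m.wd sw ^ k * g) = g * m.t p0 * (g⁻¹ * m.wd sw ^ k * g) := by group
    have e2 : g * (g⁻¹ * m.wd sw ^ k * g) = m.wd sw ^ k * g := by group
    rw [e1, h5, e2]
  · exact h

end

/-- the model of `Fi22` -/
def mdl : Model Cfsg.Spor.Fi22 {x | ∃ g, x = g * gen .a * g⁻¹} := ⟨MulEquiv.refl _, fun _ => Iff.rfl⟩

theorem cent_ne_top : Subgroup.centralizer ({mdl.t p0} : Set Cfsg.Spor.Fi22) ≠ ⊤ := by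
  intro h
  have h0 := p0_lt
  have h1 : (mdl.wd zw)⁻¹ ∈ Subgroup.centralizer ({mdl.t p0} : Set Cfsg.Spor.Fi22) := by rw [h]; trivial
  rw [Subgroup.mem_centralizer_singleton_iff, mdl.comm_iff _ h0, map_inv, Equiv.Perm.inv_eq_iff_eq] at h1
  have h2 : mdl.φ (mdl.wd zw) 0 = p0 := by
    rw [mdl.φ_wd_apply]; exact Nat.eq_of_beq_eq_true chk_p0
  have h3 : p0 = 0 := (mdl.φ (mdl.wd zw)).injective (h1.symm.trans h2.symm)
  exact absurd h3 (by decide)

open Cfsg.Agent.H424.Spr in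
theorem spr_model : Spr Cfsg.Spor.Fi22 := by
  have hfin : Finite Cfsg.Spor.Fi22 := mdl.finite
  have hsim : IsSimpleGroup Cfsg.Spor.Fi22 := Cfsg.Agent.R01.Fi22Facts.isSimple
  refine spr_of_one ?_ cent_ne_top (s := mdl.wd sw) (fun K hs hK => le_cent mdl hs hK)
  by_contra hcon
  push Not at hcon
  apply cent_ne_top
  rw [Subgroup.eq_top_iff']
  intro g
  rw [Subgroup.mem_centralizer_singleton_iff]
  exact hcon _ _

open Cfsg.Agent.H424.Spr in
/-- **Row `Fi22` of S3938.** -/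
theorem spr_fi22 {T : Type} [Group T] (h : Cfsg.Spor.IsoFi22 T) : Spr T := by
  obtain ⟨e⟩ := h
  exact Spr.congr e.symm spr_model

end Cfsg.Agent.H867.SprFi22
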