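import Cfsg.Agent.MonsterX.LeechIrr
import Cfsg.Agent.MonsterU.Lam2

/-!
# The Leech lattice modulo two is faithful and irreducible for `Co1`
-/

set_option autoImplicit false

namespace Cfsg.Agent.H867.LeechIrrTwo

open Cfsg Cfsg.Agent.MonsterU.Lam2

theorem main : (∀ g : ↥Cfsg.Co0, (∀ v : ↥Cfsg.leechLattice, ∃ w : ↥Cfsg.leechLattice, ((g • v : ↥Cfsg.leechLattice) : Cfsg.GolayPt → ℤ) - (v : Cfsg.GolayPt → ℤ) = 2 • (w : Cfsg.GolayPt → ℤ)) → g ∈ Subgroup.center ↥Cfsg.Co0) ∧ ∀ M : AddSubgroup (Cfsg.GolayPt → ℤ), (∀ v ∈ Cfsg.leechLattice, (2 : ℤ) • v ∈ M) → M ≤ Cfsg.leechLattice → (∀ g : ↥Cfsg.Co0, ∀ v : ↥Cfsg.leechLattice, (v : Cfsg.GolayPt → ℤ) ∈ M → ((g • v : ↥Cfsg.leechLattice) : Cfsg.GolayPt → ℤ) ∈ M) → (∀ x ∈ M, ∃ w ∈ Cfsg.leechLattice, x = (2 : ℤ) • w) ∨ M = Cfsg.leechLattice := by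
  constructor
  · intro g hg
    apply mem_center_of_trivial
    intro x
    obtain ⟨v, rfl⟩ := cl_surjective x
    rw [smul_cl, cl_eq]
    obtain ⟨w, hw⟩ := hg v
    exact ⟨w, Subtype.ext hw⟩
  · intro M h2 hle hM
    rcases Cfsg.Agent.MonsterX.LeechIrr.irreducible (M.comap leechLattice.subtype)
      (fun z => by
        show (((2 : ℕ) • z : leechLattice) : GolayPt → ℤ) ∈ M
        have h := h2 z z.2
        have h3 : (((2 : ℕ) • z : leechLattice) : GolayPt → ℤ) = (2 : ℤ) • (z : GolayPt → ℤ) := by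
          rw [AddSubgroup.coe_nsmul, ← natCast_zsmul]
          rfl
        rw [h3]
        exact h) (fun g x hx => hM g x hx) with h | h
    · left
      intro x hx
      obtain ⟨z, hz⟩ := h ⟨x, hle hx⟩ hx
      refine ⟨z, z.2, ?_⟩
      have h3 := congrArg Subtype.val hz
      rw [AddSubgroup.coe_nsmul, ← natCast_zsmul] at h3
      exact h3
    · right
      apply le_antisymm hle
      intro x hx
      have h3 : (⟨x, hx⟩ : leechLattice) ∈ M.comap leechLattice.subtype := by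
        rw [h]
        trivial
      exact h3

end Cfsg.Agent.H867.LeechIrrTwo
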