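import Cfsg.Agent.H867.Engine

/-!
# The certificates of the engine for small groups of Lie type
-/

set_option autoImplicit false
set_option maxRecDepth 100000

namespace Cfsg.Agent.H867.LieCheck

open Cfsg.Agent.H867.Engine

/-- `g2_3`, `b = 5` -/
theorem prod_g2_3 : prodL [(2, 6), (3, 6), (7, 1), (13, 1)] = 4245696 := by decide +kernel

theorem g2_3 : check [(2, 6), (3, 6), (7, 1), (13, 1)] 4245696 2 5
    [.V, .V, .V, .V, .V, .V, .V, .V, .V, .V, .D, (.J 13), .D, (.J 13), .D] = true := by decide +kernel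

/-- `g2_4`, `b = 5` -/
theorem prod_g2_4 : prodL [(2, 12), (3, 3), (5, 2), (7, 1), (13, 1)] = 251596800 := by decide +kernel

theorem g2_4 : check [(2, 12), (3, 3), (5, 2), (7, 1), (13, 1)] 251596800 2 5
    [.V, .V, .V, .V, .V, .V, .V, .V, .V, .V, .V, (.J 13), .D, (.J 13), .D, (.J 13), (.J 13), .D, .D, (.J 13), (.J 13)] = true := by decide +kernel

/-- `g2_5`, `b = 5` -/
theorem prod_g2_5 : prodL [(2, 6), (3, 3), (5, 6), (7, 1), (31, 1)] = 5859000000 := by decide +kernel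

theorem g2_5 : check [(2, 6), (3, 3), (5, 6), (7, 1), (31, 1)] 5859000000 1 5
    [.V, .V, .V, .V, .V, .V, .V, .V, .V, .V, .V, .V, .V, .V, .V, .V, .V, .V, .V, .V, .V, .V, .V, .V] = true := by decide +kernel

/-- `twD4_2`, `b = 5` -/
theorem prod_twD4_2 : prodL [(2, 12), (3, 4), (7, 2), (13, 1)] = 211341312 := by decide +kernel

theorem twD4_2 : check [(2, 12), (3, 4), (7, 2), (13, 1)] 211341312 3 5
    [.V, .V, .V, .V, .V, .V, .V, .V, .V, .V, .V, (.J 13), .D, (.J 13), .D, .D, (.J 13), .D, .D, (.J 13), .D] = true := by decide +kernel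

/-- `twD4_3`, `b = 5` -/
theorem prod_twD4_3 : prodL [(2, 6), (3, 12), (7, 2), (13, 2), (73, 1)] = 20560831566912 := by decide +kernel

theorem twD4_3 : check [(2, 6), (3, 12), (7, 2), (13, 2), (73, 1)] 20560831566912 3 5
    [.V, .V, .V, .V, .V, .V, .V, .V, .V, .V, .V, .V, .V, .V, .V, .V, .V, .V, .V, .V, .V, .V, .V, .V, .V, .V, .V, .V, .V, .V, .V, .V, .V, .V, .V, .V, .V] = true := by decide +kernel

/-- `sz_8`, `b = 5` -/
theorem prod_sz_8 : prodL [(2, 6), (5, 1), (7, 1), (13, 1)] = 29120 := by decide +kernel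

theorem sz_8 : check [(2, 6), (5, 1), (7, 1), (13, 1)] 29120 3 5
    [.V, .V, .V, .V, .V, .V, .V, .V, (.J 7)] = true := by decide +kernel

/-- `sz_32`, `b = 5` -/
theorem prod_sz_32 : prodL [(2, 10), (5, 2), (31, 1), (41, 1)] = 32537600 := by decide +kernel

theorem sz_32 : check [(2, 10), (5, 2), (31, 1), (41, 1)] 32537600 5 5
    [.V, .V, .V, .V, .V, .V, .V, .V, .V, .V, .V, .V, .V, .V, .V, .V, .V, .V, .V] = true := by decide +kernel

/-- `ree_27`, `b = 5` -/
theorem prod_ree_27 : prodL [(2, 3), (3, 9), (7, 1), (13, 1), (19, 1), (37, 1)] = 10073444472 := by decide +kernel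

theorem ree_27 : check [(2, 3), (3, 9), (7, 1), (13, 1), (19, 1), (37, 1)] 10073444472 3 5
    [.V, .V, .V, .V, .V, .V, .V, .V, .V, .V, .V, .V, .V, .V, .V, .V, .V, .V, .V, .V, .V, .V, .V, .V, .V, .V] = true := by decide +kernel

/-- `twF4_8`, `b = 5` -/
theorem prod_twF4_8 : prodL [(2, 36), (3, 5), (5, 2), (7, 2), (13, 2), (19, 1), (37, 1), (109, 1)] = 264905352699586176614400 := by decide +kernel

theorem twF4_8 : check [(2, 36), (3, 5), (5, 2), (7, 2), (13, 2), (19, 1), (37, 1), (109, 1)] 264905352699586176614400 3 5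
    [.V, .V, .V, .V, .V, .V, .V, .V, .V, .V, .V, .V, .V, .V, .V, .V, .V, .V, .V, .V, .V, .V, .V, .V, .V, .V, .V, .V, .V, .V, .V, .V, .V, .V, .V, .V, .V, .V, .V, .V, .V, .V, .V, .V, .V, .V, .V, .V, .V, .V, .V, .V, .V, .V, .V, .V, .V, .V, .V, .V, .V, .V, .V, .V, .V, .V, .V, .V, .V, .V] = true := by decide +kernel

/-- `twF4_32`, `b = 32` -/
theorem prod_twF4_32 : prodL [(2, 60), (3, 3), (5, 4), (11, 2), (13, 1), (31, 2), (41, 2), (61, 1), (331, 1), (1321, 1)] = 1318633155799591447702161609782722560000 := by decide +kernel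

theorem twF4_32 : check [(2, 60), (3, 3), (5, 4), (11, 2), (13, 1), (31, 2), (41, 2), (61, 1), (331, 1), (1321, 1)] 1318633155799591447702161609782722560000 5 32
    [.V, .V, .V, .V, .V, .V, .V, .V, .V, .V, .V, .V, .V, .V, .V, .V, .V, .V, .V, .V, .V, .V, .V, .V, .V, .V, .V, .V, .V, .V, .V, .V, .V, .V, .V, .V, .V, .V, .V, .V, .V, .V, .V, .V, .V, .V, .V, .V, .V, .V, .V, .V, .V, .V, .V, .V, .V, .V, .V, .V, .V, .V, .V, .V, .V, .V, .V, .V, .V, .V, .V, .V, .V, .V, .V, .V, .V, .V, .V, .V, .V, .V, .V, .V, .V, .V, .V, .V, .V, .V, .V, .V, .V, .V, .V] = true := by decide +kernel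

/-- `twF4_128`, `b = 128` -/
theorem prod_twF4_128 : prodL [(2, 84), (3, 3), (5, 2), (13, 1), (29, 2), (43, 2), (113, 2), (127, 2), (1429, 1), (5419, 1), (14449, 1)] = 6082094555322622967641341883296948240189833427183206400 := by decide +kernel

theorem twF4_128 : check [(2, 84), (3, 3), (5, 2), (13, 1), (29, 2), (43, 2), (113, 2), (127, 2), (1429, 1), (5419, 1), (14449, 1)] 6082094555322622967641341883296948240189833427183206400 7 128
    [.V, .V, .V, .V, .V, .V, .V, .V, .V, .V, .V, .V, .V, .V, .V, .V, .V, .V, .V, .V, .V, .V, .V, .V, .V, .V, .V, .V, .V, .V, .V, .V, .V, .V, .V, .V, .V, .V, .V, .V, .V, .V, .V, .V, .V, .V, .V, .V, .V, .V, .V] = true := by decide +kernel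

end Cfsg.Agent.H867.LieCheck
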