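import Cfsg.Prelude.Def_SporadicCombinatorics
import Cfsg.Agent.J4.M24Invol

/-!
# The two classes of involutions of `M24`, in terms of fixed points
-/

set_option autoImplicit false
open scoped Pointwise

namespace Cfsg.Agent.H867.M24Inv

open Cfsg Cfsg.Agent.SporadicA.GolayBase Cfsg.Agent.SporadicA.GolayPerm
open Cfsg.Agent.SporadicStructure.M24El Cfsg.Agent.J4.M24InvolData Cfsg.Agent.J4.M24Invol

/-- The set of fixed points. -/
def fixS (g : Equiv.Perm GolayPt) : Finset GolayPt := Finset.univ.filter fun p => g p = p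

theorem mem_fixS {g : Equiv.Perm GolayPt} {p : GolayPt} : p ∈ fixS g ↔ g p = p := by
  unfold fixS
  rw [Finset.mem_filter]
  exact ⟨fun h => h.2, fun h => ⟨Finset.mem_univ _, h⟩⟩

theorem fixS_conj (k g : Equiv.Perm GolayPt) : fixS (k * g * k⁻¹) = k • fixS g := by
  ext p
  rw [mem_fixS, Finset.mem_smul_finset]
  constructor
  · intro h
    refine ⟨k⁻¹ p, ?_, ?_⟩
    · rw [mem_fixS]
      have h1 : k (g (k⁻¹ p)) = p := h
      rw [Equiv.Perm.eq_inv_iff_eq, h1]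
    · show k (k⁻¹ p) = p
      simp
  · rintro ⟨q, hq, rfl⟩
    rw [mem_fixS] at hq
    show k (g (k⁻¹ (k q))) = k q
    have h1 : k⁻¹ (k q) = q := by simp
    rw [h1, hq]

theorem fixS_el {P : ℕ} (h : ok P = true) (m : ℕ) (hm : ∀ i < 24, (papp P i = i ↔ m.testBit i = true)) :
    fixS (el P : Equiv.Perm GolayPt) = fin m := by
  ext p
  rw [mem_fixS, mem_fin, ← hm _ (idx_lt p)]
  have h1 : (el P : Equiv.Perm GolayPt) p = pt (papp P (idx p)) := el_smul_pt h p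
  rw [h1]
  constructor
  · intro h2
    have h3 := congrArg idx h2
    rwa [idx_pt (papp_lt (ok_iff.1 h).1 (idx_lt p))] at h3
  · intro h2
    rw [h2, pt_idx]

theorem fixS_P1 : fixS (el P1 : Equiv.Perm GolayPt) = fin 1327290 :=
  fixS_el ok_P1 _ (by decide +kernel)

theorem fixS_P2 : fixS (el P2 : Equiv.Perm GolayPt) = ∅ := by
  rw [fixS_el ok_P2 0 (by decide +kernel)]
  ext p
  rw [mem_fin]
  simp

theorem oct_mem : fin 1327290 ∈ octads := by
  rw [fin_mem_octads_iff (by norm_num)]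
  exact ⟨by decide +kernel, by decide +kernel⟩

theorem inv_facts {g : Equiv.Perm GolayPt} (hg : g ∈ M24) (ho : orderOf g = 2) :
    ∃ k : M24, (k * ⟨g, hg⟩ * k⁻¹ = el P1 ∧ fixS g ∈ octads) ∨
      (k * ⟨g, hg⟩ * k⁻¹ = el P2 ∧ fixS g = ∅) := by
  have h2 : (⟨g, hg⟩ : M24) * ⟨g, hg⟩ = 1 := by
    apply Subtype.ext
    show g * g = 1
    rw [← pow_two, ← ho]
    exact pow_orderOf_eq_one g
  have h1 : (⟨g, hg⟩ : M24) ≠ 1 := by
    intro h
    have h3 : g = 1 := congrArg Subtype.val h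
    rw [h3, orderOf_one] at ho
    omega
  obtain ⟨k, hk⟩ := invol_conj ⟨g, hg⟩ h2 h1
  have key : (k : Equiv.Perm GolayPt) • fixS g = fixS ((k * ⟨g, hg⟩ * k⁻¹ : M24) :
      Equiv.Perm GolayPt) := by
    rw [← fixS_conj]
    rfl
  refine ⟨k, ?_⟩
  rcases hk with hk | hk
  · left
    refine ⟨hk, ?_⟩
    rw [hk, fixS_P1] at key
    rw [← Cfsg.Agent.SporadicA.GolayPerm.smul_mem_octads k.2, key]
    exact oct_mem
  · right
    refine ⟨hk, ?_⟩
    rw [hk, fixS_P2] at key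
    exact Finset.smul_finset_eq_empty.1 key

theorem order_el (P : ℕ) (h : ok P = true) (hP : pcomp P P = idP) (hne : fixS (el P : Equiv.Perm GolayPt) ≠ Finset.univ) :
    orderOf (el P : Equiv.Perm GolayPt) = 2 := by
  apply orderOf_eq_prime
  · rw [pow_two]
    have h1 := el_pcomp h h
    rw [hP, el_idP] at h1
    exact (congrArg Subtype.val h1).symm
  · intro h1
    apply hne
    ext p
    rw [mem_fixS, h1]
    simp

theorem main : (∀ g ∈ Cfsg.M24, orderOf g = 2 → (Finset.univ.filter fun p => g p = p) ∈ Cfsg.octads ∨ ∀ p, g p ≠ p) ∧ (∃ g ∈ Cfsg.M24, orderOf g = 2 ∧ (Finset.univ.filter fun p => g p = p) ∈ Cfsg.octads) ∧ (∃ g ∈ Cfsg.M24, orderOf g = 2 ∧ ∀ p, g p ≠ p) ∧ ∀ g ∈ Cfsg.M24, ∀ h ∈ Cfsg.M24, orderOf g = 2 → orderOf h = 2 → ((∀ p, g p ≠ p) ↔ (∀ p, h p ≠ p)) → ∃ k ∈ Cfsg.M24, k * g * k⁻¹ = h := by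
  have hemp : ∀ {g : Equiv.Perm GolayPt}, fixS g = ∅ ↔ ∀ p, g p ≠ p := by
    intro g
    rw [Finset.eq_empty_iff_forall_notMem]
    simp only [mem_fixS]
    try exact Iff.rfl
  have hoct : ∀ {g : Equiv.Perm GolayPt}, fixS g ∈ octads → ¬ ∀ p, g p ≠ p := by
    intro g h1 h2
    rw [hemp.2 h2] at h1
    have := octad_card h1
    rw [Finset.card_empty] at this
    omega
  refine ⟨?_, ?_, ?_, ?_⟩
  · intro g hg ho
    obtain ⟨k, ⟨-, h⟩ | ⟨-, h⟩⟩ := inv_facts hg ho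
    · exact Or.inl h
    · exact Or.inr (hemp.1 h)
  · refine ⟨el P1, (el P1).2, order_el P1 ok_P1 (by decide +kernel) ?_, ?_⟩
    · rw [fixS_P1]
      intro h
      have h1 := octad_card oct_mem
      rw [h] at h1
      exact absurd h1 (by decide)
    · show fixS _ ∈ octads
      rw [fixS_P1]
      exact oct_mem
  · refine ⟨el P2, (el P2).2, order_el P2 ok_P2 (by decide +kernel) ?_, ?_⟩
    · rw [fixS_P2]
      intro h
      have h1 := congrArg Finset.card h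
      exact absurd h1 (by decide)
    · exact hemp.1 fixS_P2
  · intro g hg h hh hog hoh hiff
    obtain ⟨k, hk⟩ := inv_facts hg hog
    obtain ⟨l, hl⟩ := inv_facts hh hoh
    have key : ∀ (x : M24), k * ⟨g, hg⟩ * k⁻¹ = x → l * ⟨h, hh⟩ * l⁻¹ = x →
        ∃ k ∈ M24, k * g * k⁻¹ = h := by
      intro x h1 h2
      refine ⟨((l⁻¹ * k : M24) : Equiv.Perm GolayPt), (l⁻¹ * k).2, ?_⟩
      have h3 : (l⁻¹ * k) * ⟨g, hg⟩ * (l⁻¹ * k)⁻¹ = (⟨h, hh⟩ : M24) := by
        calc (l⁻¹ * k) * ⟨g, hg⟩ * (l⁻¹ * k)⁻¹ = l⁻¹ * (k * ⟨g, hg⟩ * k⁻¹) * l := by group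
          _ = l⁻¹ * (l * ⟨h, hh⟩ * l⁻¹) * l := by rw [h1, h2]
          _ = _ := by group
      exact congrArg Subtype.val h3
    rcases hk with ⟨h1, h2⟩ | ⟨h1, h2⟩ <;> rcases hl with ⟨h3, h4⟩ | ⟨h3, h4⟩
    · exact key _ h1 h3
    · exact absurd (hiff.2 (hemp.1 h4)) (hoct h2)
    · exact absurd (hiff.1 (hemp.1 h2)) (hoct h4)
    · exact key _ h1 h3

end Cfsg.Agent.H867.M24Inv
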